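import Mathlib
import Cfsg.Prelude.Def_CaseTheorems
import Cfsg.Prelude.Def_Transfer
import Cfsg.Prelude.Def_TwoFusion
import Cfsg.Agent.Lib.SolvableCore.Basic
import Cfsg.Agent.Lib.PSolvable.Core
import Cfsg.Agent.Lib.Components.BalanceBasic
import Cfsg.Agent.Lib.CoreSeparated.Basic
import Cfsg.Agent.Lib.Signalizer.Solvable
import Cfsg.Agent.Lib.Transfer.Criteria
import Cfsg.Agent.Lib.SECount.TransferMod
import Cfsg.Agent.Lib.OddCond.Basic
import Cfsg.Agent.Lib.Isolated.Basic
import Cfsg.Agent.S0205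

/-!
Abelian strongly closed 2-subgroups: solvable groups, fusion transfers of index two, and the
signalizer step (row S3197).
-/

set_option autoImplicit false

namespace Cfsg.Agent.Lib.A8Sylow91

open Cfsg Subgroup

universe u

variable {G : Type u} [Group G]

theorem oddSolvable : OddCond.OddSolvable.{u} := fun _ _ _ h => Cfsg.Agent.S0205.result h

theorem not_two_dvd_odd {n : ℕ} : ¬ 2 ∣ n ↔ Odd n := by
  rw [← even_iff_two_dvd, Nat.not_even_iff_odd]

theorem eq_one_of_isPGroup_of_odd [Finite G] {H : Subgroup G} (hH : IsPGroup 2 H) {x : G}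
    (hx : x ∈ H) (ho : Odd (orderOf x)) : x = 1 := by
  obtain ⟨k, hk⟩ := hH ⟨x, hx⟩
  have h2 : x ^ 2 ^ k = 1 := congrArg Subtype.val hk
  have := Nat.eq_one_of_dvd_coprimes ((Nat.coprime_two_right.2 ho).pow_right k) dvd_rfl
    (orderOf_dvd_of_pow_eq_one h2)
  rwa [orderOf_eq_one_iff] at this

/-- An element of odd order which moves `q` only by a commuting 2-element fixes it. -/
theorem fix_of_odd {k q r : G} (ho : Odd (orderOf k)) (hr : r ^ 2 = 1) (hkr : Commute k r)
    (h : k * q * k⁻¹ = q * r) : r = 1 := by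
  have hn : ∀ n : ℕ, k ^ n * q * (k ^ n)⁻¹ = q * r ^ n := by
    intro n
    induction n with
    | zero => simp
    | succ n ih =>
      calc k ^ (n + 1) * q * (k ^ (n + 1))⁻¹ = k * (k ^ n * q * (k ^ n)⁻¹) * k⁻¹ := by
            rw [pow_succ']; group
        _ = (k * q * k⁻¹) * (k * r ^ n * k⁻¹) := by rw [ih]; group
        _ = q * r ^ (n + 1) := by
            rw [h, (hkr.pow_right n).eq, mul_inv_cancel_right, pow_succ', mul_assoc]
  have h1 := hn (orderOf k)
  rw [pow_orderOf_eq_one, one_mul, inv_one, mul_one, left_eq_mul] at h1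
  obtain ⟨j, hj⟩ := ho
  rw [hj, pow_succ, pow_mul, hr, one_pow, one_mul] at h1
  exact h1

/-- A group all of whose elements of odd order are trivial is a 2-group. -/
theorem isPGroup_of_odd_eq_one [Finite G] {D : Subgroup G}
    (h : ∀ x ∈ D, Odd (orderOf x) → x = 1) : IsPGroup 2 D := by
  rintro ⟨x, hx⟩
  obtain ⟨a, m, hm, hd⟩ :=
    Nat.exists_eq_pow_mul_and_not_dvd (orderOf_pos x).ne' 2 (by norm_num)
  refine ⟨a, Subtype.ext ?_⟩
  rw [SubmonoidClass.coe_pow, OneMemClass.coe_one]
  refine h _ (pow_mem hx _) ?_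
  rw [orderOf_pow_of_dvd (pow_ne_zero a (by norm_num)) (hd ▸ Dvd.intro m rfl), hd,
    Nat.mul_div_cancel_left m (pow_pos (by norm_num) a)]
  exact not_two_dvd_odd.1 hm

/-- A preimage of odd order of an element of odd order. -/
theorem exists_odd_preimage [Finite G] {H : Type*} [Group H] (f : G →* H) (g : G)
    (ho : Odd (orderOf (f g))) : ∃ j : ℕ, Odd (orderOf (g ^ j)) ∧ f (g ^ j) = f g := by
  obtain ⟨a, m, hm, hd⟩ :=
    Nat.exists_eq_pow_mul_and_not_dvd (orderOf_pos g).ne' 2 (by norm_num)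
  obtain ⟨i, hi⟩ : ∃ i : ℕ, 2 ^ a * i ≡ 1 [MOD orderOf (f g)] := by
    have hco : (2 ^ a).Coprime (orderOf (f g)) :=
      (Nat.coprime_two_left.2 ho).pow_left a
    obtain ⟨i, -, hi⟩ := Nat.exists_mul_mod_eq_of_coprime 1 hco
      (fun h => by rw [h] at ho; simp at ho)
    exact ⟨i, hi⟩
  refine ⟨2 ^ a * i, ?_, ?_⟩
  · refine Odd.of_dvd_nat (not_two_dvd_odd.1 hm) (orderOf_dvd_of_pow_eq_one ?_)
    rw [← pow_mul, show 2 ^ a * i * m = orderOf g * i by rw [hd]; ring, pow_mul,
      pow_orderOf_eq_one, one_pow]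
  · rw [map_pow]
    conv_rhs => rw [← pow_one (f g)]
    exact pow_eq_pow_iff_modEq.2 hi

section Sylow

variable [Finite G]

/-- A Sylow subgroup with respect to a subgroup, inside a given Sylow of the whole group. -/
theorem exists_sylow_ge {A : Subgroup G} (hA : IsPGroup 2 A) :
    ∃ T : Sylow 2 G, A ≤ (T : Subgroup G) :=
  hA.exists_le_sylow

theorem isPGroup_subgroupOf {A H : Subgroup G} (hA : IsPGroup 2 A) :
    IsPGroup 2 (A.subgroupOf H) := hA.comap_subtype

/-- Transport of a normalizing element: conjugates of 2-elements normalizing a Sylow subgroup lie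
in it. -/
theorem mem_of_normalizes {M : Subgroup G} (hM : IsPGroup 2 M) (hidx : Odd M.index) {x : G}
    (hx : IsPGroup 2 (zpowers x)) (hn : x ∈ normalizer (M : Set G)) : x ∈ M := by
  haveI : Fact (Nat.Prime 2) := ⟨Nat.prime_two⟩
  have h := hx.to_sup_of_normal_right' hM (zpowers_le.2 hn)
  have h2 : M = zpowers x ⊔ M :=
    ((hM.toSylow (not_two_dvd_odd.2 hidx)).is_maximal' h le_sup_right).symm
  exact h2 ▸ mem_sup_left (mem_zpowers x)

/-- If the elements of odd order normalizing an abelian Sylow 2-subgroup centralize it, the group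
is solvable. -/
theorem isSolvable_of_odd_centralizes (M : Sylow 2 G) (hM : IsMulCommutative (M : Subgroup G))
    (h : ∀ g ∈ normalizer ((M : Subgroup G) : Set G), Odd (orderOf g) →
      ∀ x ∈ (M : Subgroup G), g * x = x * g) : Group.IsSolvable G := by
  haveI : Fact (Nat.Prime 2) := ⟨Nat.prime_two⟩
  refine OddCond.isSolvable_of_hasNormalPComplement_two oddSolvable
    (Transfer.hasNormalPComplement_of_normalizer_le_centralizer M fun g hg => ?_)
  rw [mem_centralizer_iff]
  intro x hx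
  obtain ⟨a, m, hm, hd⟩ :=
    Nat.exists_eq_pow_mul_and_not_dvd (orderOf_pos g).ne' 2 (by norm_num)
  have h1 : Commute (g ^ 2 ^ a) x := by
    refine h _ (pow_mem hg _) ?_ x hx
    rw [orderOf_pow_of_dvd (pow_ne_zero a (by norm_num)) (hd ▸ Dvd.intro m rfl), hd,
      Nat.mul_div_cancel_left m (pow_pos (by norm_num) a)]
    exact not_two_dvd_odd.1 hm
  have h2 : Commute (g ^ m) x := by
    have hp : IsPGroup 2 (zpowers (g ^ m)) := by
      refine IsPGroup.of_card (n := a) ?_
      rw [Nat.card_zpowers, orderOf_pow_of_dvd (by rintro rfl; exact hm (dvd_zero 2))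
        (hd ▸ Dvd.intro_left _ rfl), hd,
        Nat.mul_div_cancel _ (Nat.pos_of_ne_zero (by rintro rfl; exact hm (dvd_zero 2)))]
    have hmem := mem_of_normalizes M.2 (not_two_dvd_odd.1 M.not_dvd_index) hp (pow_mem hg m)
    exact congrArg Subtype.val (hM.is_comm.comm ⟨_, hmem⟩ ⟨x, hx⟩)
  have hco : (2 ^ a).Coprime m := (Nat.coprime_two_left.2 (not_two_dvd_odd.1 hm)).pow_left a
  have e : g = (g ^ 2 ^ a) ^ (Nat.gcdA (2 ^ a) m) * (g ^ m) ^ (Nat.gcdB (2 ^ a) m) := by
    rw [← zpow_natCast, ← zpow_natCast g m, ← zpow_mul, ← zpow_mul, ← zpow_add,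
      ← Nat.gcd_eq_gcd_ab, hco.gcd_eq_one, Nat.cast_one, zpow_one]
  rw [e]
  exact ((h1.zpow_left _).mul_left (h2.zpow_left _)).eq.symm

/-- An abelian strongly closed subgroup of a Sylow 2-subgroup of a solvable group. -/
theorem normal_sup_oddCore_of_isSolvable (hs : Group.IsSolvable G) (T : Sylow 2 G)
    {A : Subgroup G} (hA : IsMulCommutative A) (hsc : IsStronglyClosed A (T : Subgroup G)) :
    (A ⊔ oddCore G).Normal := by
  haveI : Fact (Nat.Prime 2) := ⟨Nat.prime_two⟩
  haveI := hs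
  set O := oddCore G with hO
  set f := QuotientGroup.mk' O with hf
  have hfs : Function.Surjective f := QuotientGroup.mk'_surjective O
  haveI : Group.IsSolvable (G ⧸ O) := Group.isSolvable_of_surjective hfs
  set Q := pCore 2 (G ⧸ O) with hQ
  have hcQ : centralizer (Q : Set (G ⧸ O)) ≤ Q :=
    SolvableCore.centralizer_pCore_le inferInstance PSolvable.pPrimeCore_quotient_eq_bot
  have hQp : IsPGroup 2 Q := PSolvable.pCore_isPGroup
  have hQT : Q ≤ (T : Subgroup G).map f := by
    haveI : Q.Normal := pCore_normal 2 _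
    have h := (T.mapSurjective hfs).is_maximal'
      (hQp.to_sup_of_normal_left (T.mapSurjective hfs).2) le_sup_right
    exact le_sup_left.trans h.le
  have hclosed : ∀ a ∈ A.map f, ∀ x : G ⧸ O, x * a * x⁻¹ ∈ (T : Subgroup G).map f →
      x * a * x⁻¹ ∈ A.map f := by
    rintro _ ⟨a, ha, rfl⟩ x hx
    obtain ⟨g, rfl⟩ := hfs x
    rw [← map_inv, ← map_mul, ← map_mul] at hx ⊢
    set t := g * a * g⁻¹ with ht
    have htTO : t ∈ (T : Subgroup G) ⊔ O := by
      have : t ∈ ((T : Subgroup G).map f).comap f := hx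
      rwa [comap_map_eq, hf, QuotientGroup.ker_mk'] at this
    have htp : IsPGroup 2 (zpowers t) := by
      have h1 : IsPGroup 2 (zpowers a) := T.2.to_le (zpowers_le.2 (hsc.1 ha))
      have h2 := h1.map (MulAut.conj g).toMonoidHom
      rw [MonoidHom.map_zpowers] at h2
      exact h2
    set L := (T : Subgroup G) ⊔ O with hL
    have hTidx : ¬ 2 ∣ ((T : Subgroup G).subgroupOf L).index := fun hd =>
      T.not_dvd_index (hd.trans (relIndex_dvd_index_of_le le_sup_left))
    let TL : Sylow 2 L := (T.2.comap_subtype (K := L)).toSylow hTidx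
    obtain ⟨R, hR⟩ := (htp.comap_subtype (K := L)).exists_le_sylow
    obtain ⟨l, hl⟩ := MulAction.exists_smul_eq L R TL
    have h3 : (l : G) * t * (l : G)⁻¹ ∈ (T : Subgroup G) := by
      have h4 : (⟨t, htTO⟩ : L) ∈ (R : Subgroup L) := hR (mem_subgroupOf.2 (mem_zpowers t))
      have h5 : l * ⟨t, htTO⟩ * l⁻¹ ∈ (TL : Subgroup L) := by
        rw [← hl]
        exact mem_map_of_mem _ h4
      exact h5
    obtain ⟨s, hs', o, ho, hso⟩ := mem_sup_of_normal_right.1 (show (l : G) ∈ (T : Subgroup G) ⊔ O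
      from l.2)
    have h6 : o * t * o⁻¹ ∈ (T : Subgroup G) := by
      have := mul_mem (mul_mem (inv_mem hs') h3) hs'
      rw [← hso] at this
      convert this using 1
      group
    have h7 : o * t * o⁻¹ ∈ A := by
      have := hsc.2 a ha (o * g) (by convert h6 using 1; rw [ht]; group)
      convert this using 1
      rw [ht]; group
    refine ⟨o * t * o⁻¹, h7, ?_⟩
    have ho1 : f o = 1 := (QuotientGroup.eq_one_iff o).2 ho
    rw [map_mul, map_mul, map_inv, ho1, one_mul, inv_one, mul_one]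
  set B := A.map f with hB
  have hBcomm : ∀ x ∈ B, ∀ y ∈ B, x * y = y * x := by
    rintro _ ⟨x, hx, rfl⟩ _ ⟨y, hy, rfl⟩
    rw [← map_mul, ← map_mul]
    exact congrArg f (congrArg Subtype.val (hA.is_comm.comm ⟨x, hx⟩ ⟨y, hy⟩))
  have hBT : B ≤ (T : Subgroup G).map f := map_mono hsc.1
  have hR : (B ⊓ Q).Normal := ⟨fun r hr x => ⟨hclosed r hr.1 x
    (hQT ((pCore_normal 2 _).conj_mem r hr.2 x)), (pCore_normal 2 _).conj_mem r hr.2 x⟩⟩
  set R := B ⊓ Q with hRdef
  haveI := hR
  haveI : Q.Normal := pCore_normal 2 _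
  haveI hQR : (Q.map (QuotientGroup.mk' R)).Normal :=
    Normal.map inferInstance _ (QuotientGroup.mk'_surjective R)
  set D := centralizer (R : Set (G ⧸ O)) ⊓
    (centralizer ((Q.map (QuotientGroup.mk' R) : Subgroup _) :
      Set ((G ⧸ O) ⧸ R))).comap (QuotientGroup.mk' R) with hD
  haveI : D.Normal := normal_inf_normal _ _
  have hBD : B ≤ D := by
    intro b hb
    refine ⟨mem_centralizer_iff.2 fun r hr => hBcomm r hr.1 b hb, ?_⟩
    refine mem_comap.2 (mem_centralizer_iff.2 ?_)
    rintro _ ⟨q, hq, rfl⟩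
    rw [← map_mul, ← map_mul]
    refine QuotientGroup.eq.2 ?_
    refine ⟨?_, ?_⟩
    · have h1 : q⁻¹ * b * q ∈ B := by
        have hT' : q⁻¹ * b * q⁻¹⁻¹ ∈ (T : Subgroup G).map f :=
          mul_mem (mul_mem (inv_mem (hQT hq)) (hBT hb)) (inv_mem (inv_mem (hQT hq)))
        have := hclosed b hb _ hT'
        rwa [inv_inv] at this
      show (q * b)⁻¹ * (b * q) ∈ B
      rw [show (q * b)⁻¹ * (b * q) = b⁻¹ * (q⁻¹ * b * q) by group]
      exact mul_mem (inv_mem hb) h1
    · show (q * b)⁻¹ * (b * q) ∈ Q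
      rw [show (q * b)⁻¹ * (b * q) = b⁻¹ * q⁻¹ * b⁻¹⁻¹ * q by group]
      exact mul_mem ((pCore_normal 2 _).conj_mem _ (inv_mem hq) b⁻¹) hq
  have hDQ : D ≤ Q := by
    refine PSolvable.le_pCore (isPGroup_of_odd_eq_one fun k hk ho => ?_)
    have hkQ : k ∈ centralizer (Q : Set (G ⧸ O)) := by
      refine mem_centralizer_iff.2 fun q hq => ?_
      have h1 := mem_centralizer_iff.1 (mem_comap.1 hk.2) _ ⟨q, hq, rfl⟩
      rw [← map_mul, ← map_mul] at h1
      have h2 : q⁻¹ * (k * q * k⁻¹) ∈ R := by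
        have h3 := QuotientGroup.eq.1 h1
        have := hR.conj_mem _ h3 k
        convert this using 1
        group
      set r := q⁻¹ * (k * q * k⁻¹) with hr
      have hkr : Commute k r := (mem_centralizer_iff.1 hk.1 r h2).symm
      have hq1 : k * q * k⁻¹ = q * r := by rw [hr]; group
      have hr1 : r = 1 := by
        have hn : ∀ n : ℕ, k ^ n * q * (k ^ n)⁻¹ = q * r ^ n := by
          intro n
          induction n with
          | zero => simp
          | succ n ih =>
            calc k ^ (n + 1) * q * (k ^ (n + 1))⁻¹ = k * (k ^ n * q * (k ^ n)⁻¹) * k⁻¹ := by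
                  rw [pow_succ']; group
              _ = (k * q * k⁻¹) * (k * r ^ n * k⁻¹) := by rw [ih]; group
              _ = q * r ^ (n + 1) := by
                  rw [hq1, (hkr.pow_right n).eq, mul_inv_cancel_right, pow_succ', mul_assoc]
        have h4 := hn (orderOf k)
        rw [pow_orderOf_eq_one, one_mul, inv_one, mul_one, left_eq_mul] at h4
        refine eq_one_of_isPGroup_of_odd hQp h2.2 (ho.of_dvd_nat (orderOf_dvd_of_pow_eq_one h4))
      rw [hr1, mul_one] at hq1
      exact (mul_inv_eq_iff_eq_mul.1 hq1).symm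
    exact eq_one_of_isPGroup_of_odd hQp (hcQ hkQ) ho
  have hBn : B.Normal := by
    rw [show B = R from le_antisymm (le_inf le_rfl (hBD.trans hDQ)) inf_le_left]
    exact hR
  have := hBn.comap f
  rwa [hB, comap_map_eq, hf, QuotientGroup.ker_mk'] at this

/-- Index two subgroup from a set of fusion-invariant cosets. -/
theorem exists_normal_of_fusion (T : Sylow 2 G) {R : Subgroup G}
    (h2 : R.relIndex (T : Subgroup G) = 2)
    (hf : ∀ x ∈ (T : Subgroup G), ∀ g : G, g * x * g⁻¹ ∈ (T : Subgroup G) →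
      (g * x * g⁻¹ ∈ R ↔ x ∈ R)) :
    ∃ K : Subgroup G, K.Normal ∧ K.index = 2 ∧ ∀ x ∈ (T : Subgroup G), x ∈ K ↔ x ∈ R := by
  classical
  haveI : Fact (Nat.Prime 2) := ⟨Nat.prime_two⟩
  set R' := R.subgroupOf (T : Subgroup G) with hR'
  have hmul : ∀ a b : (T : Subgroup G), a * b ∈ R' ↔ (a ∈ R' ↔ b ∈ R') := fun a b =>
    mul_mem_iff_of_index_two h2
  let φ : (T : Subgroup G) →* ℤˣ :=
    { toFun := fun x => if x ∈ R' then 1 else -1
      map_one' := if_pos (one_mem _)
      map_mul' := fun a b => by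
        by_cases ha : a ∈ R' <;> by_cases hb : b ∈ R' <;> simp [hmul, ha, hb] }
  have hφ : ∀ x : (T : Subgroup G), φ x = 1 ↔ (x : G) ∈ R := by
    intro x
    show (if x ∈ R' then (1 : ℤˣ) else -1) = 1 ↔ _
    rw [← mem_subgroupOf, ← hR']
    by_cases hx : x ∈ R'
    · simp [hx]
    · simp [hx]
  have hodd : Odd (T : Subgroup G).index := not_two_dvd_odd.1 T.not_dvd_index
  have htr : ∀ x (hx : x ∈ (T : Subgroup G)), MonoidHom.transfer φ x = φ ⟨x, hx⟩ := by
    intro x hx
    rw [SECount.transfer_eq_map_pow φ hx ?_]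
    · obtain ⟨j, hj⟩ := hodd
      rcases Int.units_eq_one_or (φ ⟨x, hx⟩) with h | h <;> rw [h, hj, pow_succ, pow_mul] <;> simp
    · intro k g₀ hk
      rw [← map_pow]
      have h := hf (x ^ k) (pow_mem hx k) g₀⁻¹ (by rwa [inv_inv])
      rw [inv_inv] at h
      have he : ((⟨x, hx⟩ ^ k : (T : Subgroup G)) : G) = x ^ k := rfl
      rcases Int.units_eq_one_or (φ (⟨x, hx⟩ ^ k)) with h1 | h1
      · rw [h1, hφ]
        exact h.2 (he ▸ (hφ _).1 h1)
      · rcases Int.units_eq_one_or (φ ⟨_, hk⟩) with h2' | h2'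
        · exfalso
          have := (hφ (⟨x, hx⟩ ^ k)).2 (he ▸ h.1 ((hφ _).1 h2'))
          rw [this] at h1
          exact absurd h1 (by decide)
        · rw [h1, h2']
  refine ⟨(MonoidHom.transfer φ).ker, inferInstance, ?_, fun x hx => ?_⟩
  · obtain ⟨y, hy⟩ : ∃ y : (T : Subgroup G), y ∉ R' := by
      by_contra h
      push Not at h
      have : R' = ⊤ := eq_top_iff.2 fun y _ => h y
      rw [relIndex, ← hR', this, index_top] at h2
      omega
    have hsurj : Function.Surjective (MonoidHom.transfer φ) := by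
      intro u
      rcases Int.units_eq_one_or u with rfl | rfl
      · exact ⟨1, map_one _⟩
      · exact ⟨y, by rw [htr _ y.2]; exact if_neg hy⟩
    rw [index_ker, MonoidHom.range_eq_top.2 hsurj, card_top, Nat.card_eq_fintype_card,
      Fintype.card_units_int]
  · rw [MonoidHom.mem_ker, htr x hx, hφ]

/-- The signalizer step: all centralizers solvable and factorized. -/
theorem oddCore_sup_normalizer_eq_top {A : Subgroup G} (hA : IsElementaryAbelian 2 A)
    (h8 : 8 ≤ Nat.card A)
    (hsolv : ∀ a ∈ A, a ≠ 1 → Group.IsSolvable ↥(centralizer ({a} : Set G)))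
    (hfac : ∀ a ∈ A, a ≠ 1 →
      centralizer ({a} : Set G) ≤ centralizerPPrimeCore 2 a ⊔ normalizer (A : Set G))
    (hfill : ∀ H : Subgroup G, normalizer (A : Set G) ≤ H →
      (∀ a ∈ A, a ≠ 1 → centralizer ({a} : Set G) ≤ H) → H = ⊤) :
    oddCore G ⊔ normalizer (A : Set G) = ⊤ := by
  haveI : Fact (Nat.Prime 2) := ⟨Nat.prime_two⟩
  have hAp := SignalizerFamily.isPGroup_of_isElementaryAbelian hA
  set θ : G → Subgroup G := fun x => centralizerPPrimeCore 2 x with hθ
  have hθodd : ∀ x, ¬ 2 ∣ Nat.card (θ x) := fun x =>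
    (Nat.Prime.coprime_iff_not_dvd Nat.prime_two).mp
      (Components.centralizerPPrimeCore_coprime x).symm
  have hθconj : ∀ x g y, y ∈ θ x → g * y * g⁻¹ ∈ θ (g * x * g⁻¹) := by
    intro x g y hy
    refine CoreSeparated.mem_centralizerPPrimeCore_of_injective (MulAut.conj g⁻¹).toMonoidHom
      (MulAut.conj g⁻¹).injective ?_
    simpa [mul_assoc] using hy
  have hfun : IsSolvableSignalizerFunctor 2 A θ := by
    refine ⟨⟨fun a _ _ => Components.centralizerPPrimeCore_le_centralizer a,
      fun a _ _ => hθodd a, fun a ha _ b hb x hx => ?_, fun a ha _ b hb hb1 => ?_⟩,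
      fun a _ _ => oddSolvable _ (not_two_dvd_odd.1 (hθodd a))⟩
    · have h := hθconj a b x hx
      rwa [SignalizerFamily.comm_of_isElementaryAbelian hA hb ha, mul_inv_cancel_right] at h
    · exact Components.centralizerPPrimeCore_inf_le
        (Components.pLayer_eq_bot_of_isSolvable (hsolv b hb hb1))
        (hAp.to_le (zpowers_le.2 ha)) (SignalizerFamily.comm_of_isElementaryAbelian hA ha hb)
  obtain ⟨hWodd, -, -, -⟩ := SignalizerSolvable.closure_of_solvable hA (by simpa using h8) hfun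
  set W := signalizerClosure A θ with hW
  have hθW : ∀ a ∈ A, a ≠ 1 → θ a ≤ W := fun a ha ha1 =>
    le_iSup (fun b : {b : G // b ∈ A ∧ b ≠ 1} => θ (b : G)) ⟨a, ha, ha1⟩
  have hNW : normalizer (A : Set G) ≤ normalizer (W : Set G) := by
    intro n hn
    refine mem_normalizer_fintype fun w hw => ?_
    have hle : W ≤ W.comap (MulAut.conj n).toMonoidHom := by
      refine iSup_le fun d => fun y hy => ?_
      have hd : n * (d : G) * n⁻¹ ∈ A := (mem_normalizer_iff.1 hn _).1 d.2.1
      exact hθW _ hd (fun h => d.2.2 (conj_eq_one_iff.1 h)) (hθconj _ n y hy)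
    exact hle hw
  have hWn : W.Normal := normalizer_eq_top_iff.1 (hfill _ hNW fun a ha ha1 =>
    (hfac a ha ha1).trans (sup_le ((hθW a ha ha1).trans le_normalizer) hNW))
  have hWO : W ≤ oddCore G := by
    haveI := hWn
    exact PSolvable.le_pPrimeCore ((Nat.prime_two.coprime_iff_not_dvd.2 hWodd).symm)
  exact hfill _ le_sup_right fun a ha ha1 =>
    (hfac a ha ha1).trans (sup_le_sup_right ((hθW a ha ha1).trans hWO) _)

/-- Normality from the factorization. -/
theorem normal_sup_oddCore_of_top {A : Subgroup G}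
    (h : oddCore G ⊔ normalizer (A : Set G) = ⊤) : (A ⊔ oddCore G).Normal := by
  refine normalizer_eq_top_iff.1 (eq_top_iff.2 (h ▸ sup_le ?_ ?_))
  · exact le_trans le_sup_right le_normalizer
  · intro n hn
    refine mem_normalizer_fintype fun x hx => ?_
    obtain ⟨a, ha, o, ho, rfl⟩ := mem_sup_of_normal_right.1 (show x ∈ A ⊔ oddCore G from hx)
    have e : n * (a * o) * n⁻¹ = (n * a * n⁻¹) * (n * o * n⁻¹) := by group
    rw [SetLike.mem_coe, e]
    exact mul_mem (mem_sup_left ((mem_normalizer_iff.1 hn a).1 ha))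
      (mem_sup_right ((pPrimeCore_normal 2 G).conj_mem o ho n))

/-- A strongly closed subgroup is strongly closed in every 2-group containing it. -/
theorem stronglyClosed_of_ge (S : Sylow 2 G) {A : Subgroup G}
    (hsc : IsStronglyClosed A (S : Subgroup G)) {T : Subgroup G} (hT : IsPGroup 2 T)
    (hAT : A ≤ T) : IsStronglyClosed A T := by
  haveI : Fact (Nat.Prime 2) := ⟨Nat.prime_two⟩
  refine ⟨hAT, fun a ha g hg => ?_⟩
  obtain ⟨R, hR⟩ := hT.exists_le_sylow
  obtain ⟨c, hc⟩ := MulAction.exists_smul_eq G R S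
  have hcT : ∀ y ∈ T, c * y * c⁻¹ ∈ (S : Subgroup G) := by
    intro y hy
    rw [← hc]
    exact mem_map_of_mem _ (hR hy)
  have hcA : c ∈ normalizer (A : Set G) :=
    mem_normalizer_fintype fun y hy => hsc.2 y hy c (hcT y (hAT hy))
  have h := hsc.2 a ha (c * g) (by convert hcT _ hg using 1; group)
  refine (mem_normalizer_iff.1 hcA _).2 ?_
  convert h using 1
  group

/-- Solvable centralizers factorize. -/
theorem centralizer_le_sup (S : Sylow 2 G) {A : Subgroup G} (hA : IsMulCommutative A)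
    (hAp : IsPGroup 2 A) (hsc : IsStronglyClosed A (S : Subgroup G)) {a : G} (ha : a ∈ A)
    (hs : Group.IsSolvable ↥(centralizer ({a} : Set G))) :
    centralizer ({a} : Set G) ≤ centralizerPPrimeCore 2 a ⊔ normalizer (A : Set G) := by
  haveI : Fact (Nat.Prime 2) := ⟨Nat.prime_two⟩
  set C := centralizer ({a} : Set G) with hC
  have hAC : A ≤ C := fun b hb => mem_centralizer_singleton_iff.2
    (congrArg Subtype.val (hA.is_comm.comm ⟨b, hb⟩ ⟨a, ha⟩))
  set A' := A.subgroupOf C with hA'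
  obtain ⟨T, hT⟩ := (hAp.comap_subtype (K := C)).exists_le_sylow
  have hTG : IsPGroup 2 ((T : Subgroup C).map C.subtype) := T.2.map _
  have hATG : A ≤ (T : Subgroup C).map C.subtype := fun b hb => ⟨⟨b, hAC hb⟩, hT hb, rfl⟩
  have hscT := stronglyClosed_of_ge S hsc hTG hATG
  have hsc' : IsStronglyClosed A' (T : Subgroup C) :=
    ⟨hT, fun b hb g hg => hscT.2 (b : G) hb (g : G) ⟨_, hg, rfl⟩⟩
  have hA'c : IsMulCommutative A' :=
    ⟨⟨fun x y => Subtype.ext (Subtype.ext (show ((x : C) : G) * (y : C) = (y : C) * (x : C) from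
      congrArg Subtype.val (hA.is_comm.comm (⟨((x : C) : G), x.2⟩ : A) ⟨((y : C) : G), y.2⟩)))⟩⟩
  have hn := normal_sup_oddCore_of_isSolvable hs T hA'c hsc'
  intro c hc
  set L := A' ⊔ oddCore C with hL
  haveI := hn
  have hidx : ¬ 2 ∣ (A'.subgroupOf L).index := by
    intro hd
    have h2 : (A'.subgroupOf L).index ∣ Nat.card (oddCore C) := by
      show A'.relIndex L ∣ _
      have e1 := PSolvable.card_mul_relIndex (le_sup_left : A' ≤ L)
      have e2 := PSolvable.card_mul_relIndex (le_sup_left : oddCore C ≤ oddCore C ⊔ A')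
      rw [Subgroup.relIndex_sup_left, sup_comm, ← hL] at e2
      obtain ⟨k, hk⟩ := Subgroup.relIndex_dvd_card (oddCore C) A'
      have hpos : 0 < (oddCore C).relIndex A' := Nat.pos_of_dvd_of_pos ⟨k, hk⟩ Nat.card_pos
      refine ⟨k, Nat.eq_of_mul_eq_mul_left hpos ?_⟩
      rw [mul_comm _ (Nat.card (oddCore C)), e2, ← e1, hk]
      ring
    exact PSolvable.pPrimeCore_not_dvd (p := 2) (G := C) (hd.trans h2)
  let P : Sylow 2 L := ((hAp.comap_subtype (K := C)).comap_subtype (K := L)).toSylow hidx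
  have hfr := Sylow.normalizer_sup_eq_top P
  have hPm : (P : Subgroup L).map L.subtype = A' := map_subgroupOf_eq_of_le le_sup_left
  rw [hPm] at hfr
  have hmem : (⟨c, hc⟩ : C) ∈ normalizer (A' : Set C) ⊔ oddCore C := by
    have hle : normalizer (A' : Set C) ⊔ L ≤ normalizer (A' : Set C) ⊔ oddCore C :=
      sup_le le_sup_left (sup_le (le_normalizer.trans le_sup_left) le_sup_right)
    exact hle (hfr ▸ mem_top _)
  obtain ⟨n, hn', o, ho, hno⟩ := mem_sup_of_normal_right.1 hmem
  have hnG : (n : G) ∈ normalizer (A : Set G) := mem_normalizer_fintype fun b hb =>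
    (mem_normalizer_iff.1 hn' ⟨b, hAC hb⟩).1 hb
  rw [show c = (n : G) * (o : G) from congrArg Subtype.val hno.symm]
  exact mul_mem (mem_sup_right hnG) (mem_sup_left ⟨o, ho, rfl⟩)

/-- A group with an abelian normal subgroup of odd index modulo the core is solvable. -/
theorem isSolvable_of_normal_sup (M : Sylow 2 G) (hM : IsMulCommutative (M : Subgroup G))
    (hn : ((M : Subgroup G) ⊔ oddCore G).Normal) : Group.IsSolvable G := by
  haveI : Fact (Nat.Prime 2) := ⟨Nat.prime_two⟩
  set L := (M : Subgroup G) ⊔ oddCore G with hL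
  haveI := hn
  haveI : Group.IsSolvable (G ⧸ L) := by
    refine oddSolvable _ (not_two_dvd_odd.1 fun hd => M.not_dvd_index ?_)
    rw [← index_eq_card] at hd
    exact hd.trans (index_dvd_of_le le_sup_left)
  haveI hO : Group.IsSolvable (oddCore G) :=
    oddSolvable _ (not_two_dvd_odd.1 PSolvable.pPrimeCore_not_dvd)
  haveI : Group.IsSolvable (M : Subgroup G) := OddCond.isPGroup_isSolvable M.2
  haveI hLs : Group.IsSolvable L := by
    haveI : ((oddCore G).subgroupOf L).Normal := inferInstance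
    haveI : Group.IsSolvable ((oddCore G).subgroupOf L) :=
      Group.isSolvable_of_isSolvable_injective (f := (subgroupOfEquivOfLe (le_sup_right :
        oddCore G ≤ L)).toMonoidHom) (MulEquiv.injective _)
    haveI : Group.IsSolvable (L ⧸ (oddCore G).subgroupOf L) :=
      Group.isSolvable_of_surjective (f := (QuotientGroup.mk' ((oddCore G).subgroupOf L)).comp
        (Subgroup.inclusion (le_sup_left : (M : Subgroup G) ≤ L))) (by
        intro q
        obtain ⟨⟨g, hg⟩, rfl⟩ := QuotientGroup.mk_surjective q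
        obtain ⟨m, hm, o, ho, hmo⟩ := mem_sup_of_normal_right.1 hg
        refine ⟨⟨m, hm⟩, ?_⟩
        simp only [MonoidHom.coe_comp, Function.comp_apply, QuotientGroup.mk'_apply]
        refine QuotientGroup.eq.2 (mem_subgroupOf.2 ?_)
        show m⁻¹ * g ∈ oddCore G
        rw [← hmo, inv_mul_cancel_left]
        exact ho)
    exact (Group.isSolvable_iff_subgroup_quotient ((oddCore G).subgroupOf L)).2
      ⟨inferInstance, inferInstance⟩
  exact (Group.isSolvable_iff_subgroup_quotient L).2 ⟨inferInstance, inferInstance⟩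

/-- An elementary abelian Sylow 2-subgroup with a proper strongly closed subgroup and solvable
centralizers of its involutions. -/
theorem isSolvable_of_stronglyClosed (M : Sylow 2 G)
    (hM : IsElementaryAbelian 2 (M : Subgroup G)) (h8 : 8 ≤ Nat.card (M : Subgroup G))
    {U : Subgroup G} (hsc : IsStronglyClosed U (M : Subgroup G)) (hU : U ≠ ⊥)
    (hUM : U ≠ (M : Subgroup G))
    (hsolv : ∀ a ∈ (M : Subgroup G), a ≠ 1 → Group.IsSolvable ↥(centralizer ({a} : Set G))) :
    Group.IsSolvable G := by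
  haveI : Fact (Nat.Prime 2) := ⟨Nat.prime_two⟩
  have hscM : IsStronglyClosed (M : Subgroup G) (M : Subgroup G) := ⟨le_rfl, fun _ _ _ h => h⟩
  refine isSolvable_of_normal_sup M hM.1 (normal_sup_oddCore_of_top
    (oddCore_sup_normalizer_eq_top hM h8 hsolv
      (fun a ha ha1 => centralizer_le_sup M hM.1 M.2 hscM ha (hsolv a ha ha1)) ?_))
  intro H hN hC
  have hMH : (M : Subgroup G) ≤ H := le_normalizer.trans hN
  have key : ∀ v ∈ (M : Subgroup G), v ∉ U → ∀ g : G, g * v * g⁻¹ ∈ H := by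
    intro v hv hvU g
    obtain ⟨x, hxU, hx1⟩ : ∃ x ∈ U, x ≠ 1 := by
      simpa [Subgroup.eq_bot_iff_forall] using hU
    set b := g * v * g⁻¹ with hb
    have hx : x * x = 1 := by rw [← sq]; exact hM.2 x (hsc.1 hxU)
    have hv2 : v * v = 1 := by rw [← sq]; exact hM.2 v hv
    have hb2 : b * b = 1 := by
      rw [hb, conj_mul, hv2, mul_one, mul_inv_cancel]
    have heven : ¬ Odd (orderOf (x * b)) := by
      intro ho
      obtain ⟨k, hk⟩ := Isolated.dihedral_conj_of_odd hx hb2 ho
      set c := g⁻¹ * (x * b) ^ k with hc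
      have hcx : c * x * c⁻¹ = v := by
        rw [hc, show g⁻¹ * (x * b) ^ k * x * (g⁻¹ * (x * b) ^ k)⁻¹ =
          g⁻¹ * ((x * b) ^ k * x * ((x * b) ^ k)⁻¹) * g by group, hk, hb]
        group
      exact hvU (hcx ▸ hsc.2 x hxU c (hcx.symm ▸ hv))
    obtain ⟨m, hm⟩ := Nat.not_odd_iff_even.1 heven
    set w := (x * b) ^ m with hw
    have hpos := orderOf_pos (x * b)
    have hw1 : w ≠ 1 := fun h => by
      have := Nat.le_of_dvd (by omega) (orderOf_dvd_of_pow_eq_one h)
      omega
    have hww : w * w = 1 := by rw [hw, ← pow_add, ← hm, pow_orderOf_eq_one]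
    have hwinv : w⁻¹ = w := inv_eq_of_mul_eq_one_right hww
    have hxw : x * w = w * x := by
      have h1 : x * w * x⁻¹ = w := by
        conv_rhs => rw [← hwinv, hw, ← inv_pow]
        rw [hw, ← conj_pow, inv_eq_of_mul_eq_one_right hx, mul_inv_rev,
          inv_eq_of_mul_eq_one_right hx, inv_eq_of_mul_eq_one_right hb2]
        congr 1
        simp [← mul_assoc, hx]
      exact mul_inv_eq_iff_eq_mul.1 h1
    have hbw : b * w = w * b := by
      have h1 : b = x * (x * b) := by rw [← mul_assoc, hx, one_mul]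
      rw [h1]
      exact ((show Commute x w from hxw).mul_left ((Commute.refl _).pow_right m)).eq
    have hwH : w ∈ H := hC x (hsc.1 hxU) hx1 (mem_centralizer_singleton_iff.2 hxw.symm)
    let MH : Sylow 2 H := (M.2.comap_subtype (K := H)).toSylow fun hd =>
      M.not_dvd_index (hd.trans (relIndex_dvd_index_of_le hMH))
    have hwp : IsPGroup 2 (zpowers (⟨w, hwH⟩ : H)) :=
      IsPGroup.of_card (n := 1) (by
        rw [Nat.card_zpowers, Subgroup.orderOf_mk, pow_one]
        exact orderOf_eq_prime (by rw [sq]; exact hww) hw1)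
    obtain ⟨R, hR⟩ := hwp.exists_le_sylow
    obtain ⟨h, hh⟩ := MulAction.exists_smul_eq H R MH
    have hwM : (h : G) * w * (h : G)⁻¹ ∈ (M : Subgroup G) := by
      have : h * ⟨w, hwH⟩ * h⁻¹ ∈ (MH : Subgroup H) := by
        rw [← hh]
        exact mem_map_of_mem _ (hR (mem_zpowers _))
      exact this
    have hCw := hC _ hwM (fun h1 => hw1 (conj_eq_one_iff.1 h1))
    have hbc : (h : G) * b * (h : G)⁻¹ ∈ centralizer ({(h : G) * w * (h : G)⁻¹} : Set G) :=
      mem_centralizer_singleton_iff.2 (by rw [conj_mul, conj_mul, hbw])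
    have := mul_mem (mul_mem (inv_mem h.2) (hCw hbc)) h.2
    convert this using 1
    group
  set N₀ := normalClosure {v : G | v ∈ (M : Subgroup G) ∧ v ∉ U} with hN₀
  have hN₀H : N₀ ≤ H := by
    refine (closure_le H).2 fun y hy => ?_
    obtain ⟨v, hv, hy⟩ := Group.mem_conjugatesOfSet_iff.1 hy
    obtain ⟨g, rfl⟩ := isConj_iff.1 hy
    exact key v hv.1 hv.2 g
  obtain ⟨v₀, hv₀, hv₀U⟩ : ∃ v ∈ (M : Subgroup G), v ∉ U :=
    SetLike.exists_of_lt (lt_of_le_of_ne hsc.1 hUM)
  have hMN : (M : Subgroup G) ≤ N₀ := by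
    intro v hv
    by_cases hvU : v ∈ U
    · have h1 : v * v₀ ∉ U := fun h => hv₀U (by simpa using mul_mem (inv_mem hvU) h)
      have h2 := mul_mem (subset_normalClosure (show v * v₀ ∈ {v : G | v ∈ (M : Subgroup G) ∧
        v ∉ U} from ⟨mul_mem hv hv₀, h1⟩))
        (inv_mem (subset_normalClosure (show v₀ ∈ {v : G | v ∈ (M : Subgroup G) ∧ v ∉ U}
          from ⟨hv₀, hv₀U⟩)))
      simpa [hN₀] using h2
    · exact subset_normalClosure ⟨hv, hvU⟩
  haveI : N₀.Normal := normalClosure_normal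
  let MN : Sylow 2 N₀ := (M.2.comap_subtype (K := N₀)).toSylow fun hd =>
    M.not_dvd_index (hd.trans (relIndex_dvd_index_of_le hMN))
  have hfr := Sylow.normalizer_sup_eq_top MN
  rw [show (MN : Subgroup N₀).map N₀.subtype = (M : Subgroup G) from
    map_subgroupOf_eq_of_le hMN] at hfr
  exact eq_top_iff.2 (hfr ▸ sup_le hN hN₀H)

end Sylow

end Cfsg.Agent.Lib.A8Sylow91
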