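import Mathlib

/-!
Finite facts about the alternating group on five letters, and about the Sylow 2-subgroups of the
alternating group on eight letters (row S3197).
-/

set_option autoImplicit false

namespace Cfsg.Agent.Lib.A8Sylow91

open Equiv Subgroup

/-- The involution `(01)(23)`. -/
def σ0 : Perm (Fin 5) := swap 0 1 * swap 2 3

/-- The four-group fixing the point `4`. -/
def V0 : Finset (Perm (Fin 5)) :=
  {1, swap 0 1 * swap 2 3, swap 0 2 * swap 1 3, swap 0 3 * swap 1 2}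

/-- A three-cycle fixing `4`. -/
def c3 : Perm (Fin 5) := swap 0 1 * swap 1 2

theorem sign_σ0 : Perm.sign σ0 = 1 := by decide +kernel

theorem mem_V0_of_fix : ∀ g : Perm (Fin 5), Perm.sign g = 1 → g 4 = 4 → g ^ 4 = 1 → g ∈ V0 := by
  decide +kernel

theorem V0_spec : ∀ g ∈ V0, Perm.sign g = 1 ∧ g 4 = 4 ∧ g * g = 1 := by decide +kernel

theorem card_V0 : V0.card = 4 := by decide +kernel

theorem mem_V0_of_commute : ∀ g : Perm (Fin 5), Perm.sign g = 1 → g * σ0 = σ0 * g → g ∈ V0 := by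
  decide +kernel

theorem exists_conj_σ0 : ∀ σ : Perm (Fin 5), Perm.sign σ = 1 → σ * σ = 1 → σ ≠ 1 →
    ∃ c : Perm (Fin 5), Perm.sign c = 1 ∧ c * σ * c⁻¹ = σ0 := by
  decide +kernel

theorem conj_mem_V0 : ∀ g : Perm (Fin 5), Perm.sign g = 1 → g⁻¹ * σ0 * g ∈ V0 →
    ∃ v ∈ V0, g = v ∨ g = c3 * v ∨ g = c3 * c3 * v := by
  decide +kernel

theorem sign_c3 : Perm.sign c3 = 1 := by decide +kernel

theorem finset_cases : ∀ r : Finset (Fin 5), r = ∅ ∨ r = Finset.univ ∨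
    (∃ i, r = {i} ∨ rᶜ = {i}) ∨ ∃ i j, i ≠ j ∧ (r = {i, j} ∨ rᶜ = {i, j}) := by
  decide +kernel

theorem nat_card_alt_five : Nat.card (alternatingGroup (Fin 5)) = 60 := by
  rw [nat_card_alternatingGroup, Nat.card_eq_fintype_card, Fintype.card_fin]
  rfl

theorem pow_gcd_eq_one' {M : Type*} [Monoid M] (g : M) {m n : ℕ} (hm : g ^ m = 1) (hn : g ^ n = 1) :
    g ^ Nat.gcd m n = 1 :=
  orderOf_dvd_iff_pow_eq_one.1
    (Nat.dvd_gcd (orderOf_dvd_of_pow_eq_one hm) (orderOf_dvd_of_pow_eq_one hn))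

/-- Elements of 2-power order fixing `4`. -/
theorem mem_V0_of_pow {g : Perm (Fin 5)} (hs : Perm.sign g = 1) (h4 : g 4 = 4) (h : g ^ 64 = 1) :
    g ∈ V0 := by
  refine mem_V0_of_fix g hs h4 ?_
  have h60 : g ^ 60 = 1 := by
    have := pow_card_eq_one' (x := (⟨g, hs⟩ : alternatingGroup (Fin 5)))
    rw [nat_card_alt_five] at this
    exact congrArg Subtype.val this
  exact pow_gcd_eq_one' g h h60

/-- `(0123)(45)` in degree eight. -/
def r8 : Perm (Fin 8) := swap 0 1 * swap 1 2 * swap 2 3 * swap 4 5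

/-- `(13)(45)` in degree eight. -/
def s8 : Perm (Fin 8) := swap 1 3 * swap 4 5

theorem isPGroup_zpowers_of_pow {G : Type*} [Group G] {x : G} {k : ℕ} (h : x ^ 2 ^ k = 1) :
    IsPGroup 2 (zpowers x) := by
  rintro ⟨_, i, rfl⟩
  refine ⟨k, Subtype.ext ?_⟩
  show (x ^ i) ^ 2 ^ k = 1
  rw [← zpow_natCast, ← zpow_mul, mul_comm, zpow_mul, zpow_natCast, h, one_zpow]

theorem card_sylow_alt_eight (P : Sylow 2 ↥(alternatingGroup (Fin 8))) :
    Nat.card (P : Subgroup ↥(alternatingGroup (Fin 8))) = 64 := by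
  haveI : Fact (Nat.Prime 2) := ⟨Nat.prime_two⟩
  rw [P.card_eq_multiplicity, nat_card_alternatingGroup, Nat.card_eq_fintype_card,
    Fintype.card_fin, show Nat.factorial 8 / 2 = 2 ^ 6 * 315 by decide]
  rw [Nat.factorization_mul (by norm_num) (by norm_num), Finsupp.add_apply,
    Nat.prime_two.factorization_pow, Finsupp.single_eq_same,
    Nat.factorization_eq_zero_of_not_dvd (by norm_num : ¬ 2 ∣ 315)]
  norm_num

theorem sylow_alt_eight_noncomm (P : Sylow 2 ↥(alternatingGroup (Fin 8))) :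
    ∃ x y : (P : Subgroup ↥(alternatingGroup (Fin 8))), x * y ≠ y * x := by
  haveI : Fact (Nat.Prime 2) := ⟨Nat.prime_two⟩
  let r : alternatingGroup (Fin 8) := ⟨r8, Equiv.Perm.mem_alternatingGroup.2 (by decide +kernel)⟩
  let s : alternatingGroup (Fin 8) := ⟨s8, Equiv.Perm.mem_alternatingGroup.2 (by decide +kernel)⟩
  have hr : r ^ 2 ^ 2 = 1 := Subtype.ext (show r8 ^ 4 = 1 by decide +kernel)
  have hs : s ^ 2 ^ 1 = 1 := Subtype.ext (show s8 ^ 2 = 1 by decide +kernel)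
  have hrs : s * r * s⁻¹ = r⁻¹ := Subtype.ext (show s8 * r8 * s8⁻¹ = r8⁻¹ by decide +kernel)
  have hne : r * s ≠ s * r := fun h =>
    absurd (congrArg Subtype.val h) (show r8 * s8 ≠ s8 * r8 by decide +kernel)
  have hnorm : zpowers s ≤ normalizer (zpowers r : Set _) := by
    refine zpowers_le.2 (mem_normalizer_fintype fun y hy => ?_)
    obtain ⟨i, rfl⟩ := mem_zpowers_iff.1 hy
    rw [SetLike.mem_coe, ← conj_zpow, hrs, inv_zpow]
    exact inv_mem (zpow_mem (mem_zpowers r) i)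
  have hp := (isPGroup_zpowers_of_pow hs).to_sup_of_normal_right' (isPGroup_zpowers_of_pow hr) hnorm
  obtain ⟨Q, hQ⟩ := hp.exists_le_sylow
  obtain ⟨c, hc⟩ := MulAction.exists_smul_eq ↥(alternatingGroup (Fin 8)) Q P
  have hmem : ∀ x ∈ (Q : Subgroup ↥(alternatingGroup (Fin 8))),
      c * x * c⁻¹ ∈ (P : Subgroup ↥(alternatingGroup (Fin 8))) := by
    intro x hx
    rw [← hc]
    exact mem_map_of_mem _ hx
  refine ⟨⟨_, hmem r (hQ (mem_sup_right (mem_zpowers r)))⟩,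
    ⟨_, hmem s (hQ (mem_sup_left (mem_zpowers s)))⟩, fun h => hne ?_⟩
  have h1 : c * r * c⁻¹ * (c * s * c⁻¹) = c * s * c⁻¹ * (c * r * c⁻¹) := congrArg Subtype.val h
  rw [conj_mul, conj_mul] at h1
  exact mul_left_cancel (mul_right_cancel h1)

end Cfsg.Agent.Lib.A8Sylow91

namespace Cfsg.Agent.Lib.A8Sylow91

open Equiv

/-- The subsets standing for `1` and `z`. -/
def zset : Finset (Finset (Fin 5)) := {∅, Finset.univ, {4}, {4}ᶜ}

/-- The subsets standing for the elements of `E₈`. -/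
def evs (s : Finset (Fin 5)) : Prop := Even (s.erase 4).card

instance (s : Finset (Fin 5)) : Decidable (evs s) := inferInstanceAs (Decidable (Even _))

theorem orbit_cases : ∀ s : Finset (Fin 5), s ≠ ∅ → s ≠ Finset.univ →
    ∃ g : Perm (Fin 5), Perm.sign g = 1 ∧
      (((s.card = 1 ∨ s.card = 4) ∧ (s.image g = {4} ∨ s.image g = ({4} : Finset (Fin 5))ᶜ)) ∨
       ((s.card = 2 ∨ s.card = 3) ∧ (s.image g = {0, 1} ∨ s.image g = ({0, 1} : Finset (Fin 5))ᶜ))) := by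
  decide +kernel

theorem image_ne_compl : ∀ g : Perm (Fin 5), Perm.sign g = 1 →
    ∀ s : Finset (Fin 5), s.image g ≠ sᶜ := by
  intro g _ s h
  have h1 := congrArg Finset.card h
  rw [Finset.card_image_of_injective _ g.injective, Finset.card_compl, Fintype.card_fin] at h1
  omega

theorem V0_fix_pair : ∀ g ∈ V0, ({0, 1} : Finset (Fin 5)).image g = {0, 1} → g = 1 ∨ g = σ0 := by
  decide +kernel

theorem V0_move_pair : ∀ g ∈ V0, g ≠ 1 → ∃ s : Finset (Fin 5), evs s ∧ s.image g ≠ s := by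
  decide +kernel

theorem V0_fix_all : ∀ s : Finset (Fin 5), (∀ g ∈ V0, s.image g = s) → s ∈ zset := by
  decide +kernel

theorem V0_two_fix : ∀ g ∈ V0, ∀ h ∈ V0, g ≠ 1 → h ≠ 1 → g ≠ h →
    ∀ s : Finset (Fin 5), s.image g = s → s.image h = s → s ∈ zset := by
  decide +kernel

theorem fix_single : ∀ g : Perm (Fin 5), Perm.sign g = 1 → g * g = 1 → g ≠ 1 →
    ∀ s t : Finset (Fin 5), (s.card = 1 ∨ s.card = 4) → (t.card = 1 ∨ t.card = 4) →
      s.image g = s → t.image g = t → s = t ∨ s = tᶜ := by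
  decide +kernel

theorem pair_stab : ∀ g : Perm (Fin 5), Perm.sign g = 1 →
    ({0, 1} : Finset (Fin 5)).image g = {0, 1} → g ^ 15 = 1 → g 0 = 0 := by
  decide +kernel

theorem pair_stab4 : ∀ g : Perm (Fin 5), Perm.sign g = 1 →
    ({0, 1} : Finset (Fin 5)).image g = {0, 1} → g 4 = 4 → g ^ 15 = 1 → g = 1 := by
  decide +kernel

theorem not_evs : ∀ s : Finset (Fin 5), ¬ evs s →
    ((s.card = 1 ∨ s.card = 4) ∧ s ≠ {4} ∧ s ≠ ({4} : Finset (Fin 5))ᶜ) ∨
      (((symmDiff s {4}).card = 1 ∨ (symmDiff s {4}).card = 4) ∧ s ∉ ({∅, Finset.univ} :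
        Finset (Finset (Fin 5)))) := by
  decide +kernel

theorem evs_spec : ∀ s : Finset (Fin 5), evs s →
    ((s.card = 1 ∨ s.card = 4) → s = {4} ∨ s = ({4} : Finset (Fin 5))ᶜ) ∧
      (((symmDiff s {4}).card = 1 ∨ (symmDiff s {4}).card = 4) → s = ∅ ∨ s = Finset.univ) := by
  decide +kernel

theorem evs_symmDiff : ∀ s t : Finset (Fin 5), evs s → evs t → evs (symmDiff s t) := by
  decide +kernel

theorem evs_zset : ∀ s ∈ zset, evs s := by decide +kernel

theorem evs_zset_pair : ∀ s : Finset (Fin 5), evs s → s ∉ zset →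
    ∃ g : Perm (Fin 5), Perm.sign g = 1 ∧ g 4 = 4 ∧
      (s.image g = {0, 1} ∨ s.image g = ({0, 1} : Finset (Fin 5))ᶜ ∨
       (symmDiff s {4}).image g = {0, 1} ∨
       (symmDiff s {4}).image g = ({0, 1} : Finset (Fin 5))ᶜ) := by
  decide +kernel

theorem commutator_zset : ∀ g ∈ V0, g ≠ 1 → ∀ s : Finset (Fin 5),
    (evs s ↔ symmDiff (s.image g) s ∈ zset) := by
  decide +kernel

theorem evs_e0 : ∀ s : Finset (Fin 5), evs (symmDiff s {0}) ↔ ¬ evs s := by decide +kernel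

theorem square_shift : ∀ g ∈ V0, g ≠ 1 → ∀ s : Finset (Fin 5), s.image g = s →
    (symmDiff s (symmDiff (({0} : Finset (Fin 5)).image g) {0}) ∈ zset ↔ s ∉ zset) := by
  decide +kernel

theorem fix_pair_unique : ∀ g ∈ V0, g ≠ 1 → ∀ s : Finset (Fin 5), s.image g = s →
    s ∈ zset ∨ symmDiff s ({0, g 0} : Finset (Fin 5)) ∈ zset := by
  decide +kernel

theorem pair_evs : ∀ g ∈ V0, g ≠ 1 → evs ({0, g 0} : Finset (Fin 5)) ∧
    ({0, g 0} : Finset (Fin 5)) ∉ zset ∧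
    ({0, g 0} : Finset (Fin 5)).image g = {0, g 0} := by
  decide +kernel

theorem moved_diff : ∀ g ∈ V0, g ≠ 1 → ∀ s t : Finset (Fin 5), evs s → evs t →
    s.image g ≠ s → t.image g ≠ t → (symmDiff s t).image g = symmDiff s t := by
  decide +kernel

theorem gen_single : ∀ i : Fin 5, ∃ a b : Finset (Fin 5), a.card = 2 ∧ b.card = 2 ∧
    (symmDiff a b = {i} ∨ symmDiff a b = ({i} : Finset (Fin 5))ᶜ) := by
  decide +kernel

end Cfsg.Agent.Lib.A8Sylow91
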