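import Mathlib
import Cfsg.Prelude.Def_CaseTheorems
import Cfsg.Prelude.Def_Transfer
import Cfsg.Prelude.Def_TwoFusion
import Cfsg.Agent.Lib.PSolvable.Core
import Cfsg.Agent.Lib.Isolated.Basic
import Cfsg.Agent.Lib.Transfer.Fusion
import Cfsg.Agent.Lib.A8Sylow91.Perms

/-!
The action of `N(A)/A·O ≅ A₅` on an elementary abelian group `A` of order sixteen with three
classes of involutions (row S3197).
-/

set_option autoImplicit false

namespace Cfsg.Agent.Lib.A8Sylow91

open Cfsg Subgroup Equiv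

universe u

variable {G : Type u} [Group G]

/-- Number of classes of involutions bounded by a list of representatives. -/
theorem classes_le {k : ℕ} (f : Fin k → G)
    (h : ∀ x : G, orderOf x = 2 → ∃ i, IsConj x (f i)) :
    Nat.card {c : ConjClasses G // ∃ x ∈ c.carrier, orderOf x = 2} ≤ k := by
  classical
  have h' : ∀ c : {c : ConjClasses G // ∃ x ∈ c.carrier, orderOf x = 2},
      ∃ i, ConjClasses.mk (f i) = c.1 := by
    rintro ⟨c, x, hx, hx2⟩
    obtain ⟨i, hi⟩ := h x hx2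
    exact ⟨i, (ConjClasses.mk_eq_mk_iff_isConj.2 hi.symm).trans (ConjClasses.mem_carrier_iff_mk_eq.1 hx)⟩
  choose g hg using h'
  have hinj : Function.Injective g := fun a b hab =>
    Subtype.ext (by rw [← hg a, ← hg b, hab])
  simpa using Nat.card_le_card_of_injective g hinj

/-- Pairwise non-conjugate involutions bound the number of classes from below. -/
theorem le_classes [Finite G] {ι : Type*} (f : ι → G) (h2 : ∀ i, orderOf (f i) = 2)
    (h : ∀ i j, IsConj (f i) (f j) → i = j) :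
    Nat.card ι ≤ Nat.card {c : ConjClasses G // ∃ x ∈ c.carrier, orderOf x = 2} := by
  refine Nat.card_le_card_of_injective
    (fun i => ⟨ConjClasses.mk (f i), f i, ConjClasses.mem_carrier_mk, h2 i⟩) fun i j hij => ?_
  exact h i j (ConjClasses.mk_eq_mk_iff_isConj.1 (congrArg Subtype.val hij))

/-- A Sylow 2-subgroup of a subgroup catches every 2-element up to conjugation. -/
theorem exists_conj_mem [Finite G] (S : Sylow 2 G) {x : G} (hx : orderOf x = 2) :
    ∃ g : G, g * x * g⁻¹ ∈ (S : Subgroup G) := by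
  haveI : Fact (Nat.Prime 2) := ⟨Nat.prime_two⟩
  have hp : IsPGroup 2 (zpowers x) := IsPGroup.of_card (n := 1) (by rw [Nat.card_zpowers, hx, pow_one])
  obtain ⟨R, hR⟩ := hp.exists_le_sylow
  obtain ⟨g, hg⟩ := MulAction.exists_smul_eq G R S
  exact ⟨g, by rw [← hg]; exact mem_map_of_mem _ (hR (mem_zpowers x))⟩

/-- The frame of row S3197: `A`, a Sylow subgroup, the action on five letters and coordinates. -/
structure Frame (A : Subgroup G) where
  S : Sylow 2 G
  hA : IsElementaryAbelian 2 A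
  h16 : Nat.card A = 16
  hS64 : Nat.card (S : Subgroup G) = 64
  hAS : A ≤ (S : Subgroup G)
  hSN : (S : Subgroup G) ≤ normalizer (A : Set G)
  φ : normalizer (A : Set G) →* Perm (Fin 5)
  sign_φ : ∀ n, Perm.sign (φ n) = 1
  surj_φ : ∀ g, Perm.sign g = 1 → ∃ n, φ n = g
  memA : ∀ n : normalizer (A : Set G), (n : G) ∈ (S : Subgroup G) → (φ n = 1 ↔ (n : G) ∈ A)
  cent : ∀ n : normalizer (A : Set G), φ n = 1 ↔ ∀ a ∈ A, (n : G) * a = a * (n : G)
  fix4 : ∀ n : normalizer (A : Set G), (n : G) ∈ (S : Subgroup G) → φ n 4 = 4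
  P : Finset (Fin 5) → G
  P_mem : ∀ s, P s ∈ A
  P_surj : ∀ a ∈ A, ∃ s, P s = a
  P_mul : ∀ s t, P s * P t = P (symmDiff s t)
  P_eq : ∀ s t, P s = P t ↔ s = t ∨ s = tᶜ
  P_conj : ∀ (n : normalizer (A : Set G)) (s : Finset (Fin 5)),
    (n : G) * P s * (n : G)⁻¹ = P (s.image (φ n))
  invol_conj : ∀ x y : normalizer (A : Set G), φ x ≠ 1 → φ y ≠ 1 → (x : G) * x = 1 →
    (y : G) * y = 1 → ∃ g : normalizer (A : Set G), (g : G) * x * (g : G)⁻¹ = y
  three : Nat.card {c : ConjClasses G // ∃ x ∈ c.carrier, orderOf x = 2} = 3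

/-! ### Construction -/

section Pre

variable {A : Subgroup G}


theorem conj_mem_A (n : ↥(normalizer (A : Set G))) {a : G} (ha : a ∈ A) : (n : G) * a * (n : G)⁻¹ ∈ A :=
  (mem_normalizer_iff.1 n.2 a).1 ha

/-- The hypotheses, unpacked. -/
structure Pre (A : Subgroup G) where
  S : Sylow 2 G
  hA : IsElementaryAbelian 2 A
  h16 : Nat.card A = 16
  hS64 : Nat.card (S : Subgroup G) = 64
  hnc : ∃ x y : (S : Subgroup G), x * y ≠ y * x
  hAS : A ≤ (S : Subgroup G)
  hSN : (S : Subgroup G) ≤ normalizer (A : Set G)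
  O : Subgroup ↥(normalizer (A : Set G))
  hO : Odd (Nat.card O)
  hOn : O.Normal
  hOcomm : ∀ o ∈ O, ∀ a ∈ A, (o : G) * a = a * (o : G)
  φ : normalizer (A : Set G) →* alternatingGroup (Fin 5)
  surj_φ : Function.Surjective φ
  ker : ∀ n : normalizer (A : Set G), φ n = 1 ↔ ∃ a ∈ A, ∃ o ∈ O, (n : G) = a * (o : G)
  three : Nat.card {c : ConjClasses G // ∃ x ∈ c.carrier, orderOf x = 2} = 3

variable (p : Pre A)
include p

theorem sq_eq_one {a : G} (ha : a ∈ A) : a * a = 1 := by rw [← sq]; exact p.hA.2 a ha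

theorem commA {a b : G} (ha : a ∈ A) (hb : b ∈ A) : a * b = b * a :=
  congrArg Subtype.val (p.hA.1.is_comm.comm ⟨a, ha⟩ ⟨b, hb⟩)

theorem orderOf_A {a : G} (ha : a ∈ A) (ha1 : a ≠ 1) : orderOf a = 2 := by
  haveI : Fact (Nat.Prime 2) := ⟨Nat.prime_two⟩
  exact orderOf_eq_prime (p.hA.2 a ha) ha1

theorem ker_centralizes {n : ↥(normalizer (A : Set G))} (hn : p.φ n = 1) {b : G} (hb : b ∈ A) :
    (n : G) * b = b * (n : G) := by
  obtain ⟨a, ha, o, ho, h⟩ := (p.ker n).1 hn
  rw [h, mul_assoc, p.hOcomm o ho b hb, ← mul_assoc, commA p ha hb, mul_assoc]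

theorem memA' [Finite G] {n : ↥(normalizer (A : Set G))} (hn : (n : G) ∈ (p.S : Subgroup G)) :
    p.φ n = 1 ↔ (n : G) ∈ A := by
  refine ⟨fun h => ?_, fun h => (p.ker n).2 ⟨n, h, 1, one_mem _, by simp⟩⟩
  obtain ⟨a, ha, o, ho, h⟩ := (p.ker n).1 h
  have h1 : (o : G) ∈ (p.S : Subgroup G) := by
    have := mul_mem (inv_mem (p.hAS ha)) hn
    rwa [h, inv_mul_cancel_left] at this
  obtain ⟨k, hk⟩ := p.S.2 ⟨(o : G), h1⟩
  have h2 : (o : G) ^ 2 ^ k = 1 := congrArg Subtype.val hk
  have hodd : Odd (orderOf (o : G)) := by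
    rw [orderOf_coe]
    exact p.hO.of_dvd_nat (orderOf_dvd_natCard _ ho)
  have := Nat.eq_one_of_dvd_coprimes ((Nat.coprime_two_right.2 hodd).pow_right k) dvd_rfl
    (orderOf_dvd_of_pow_eq_one h2)
  rw [orderOf_eq_one_iff] at this
  rw [h, this, mul_one]
  exact ha

/-- `N` does not centralize `A`. -/
theorem exists_move [Finite G] : ∃ n : ↥(normalizer (A : Set G)), ∃ a ∈ A, (n : G) * a ≠ a * (n : G) := by
  haveI : Fact (Nat.Prime 2) := ⟨Nat.prime_two⟩
  by_contra h
  push Not at h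
  set Z := center (p.S : Subgroup G) with hZ
  have hAZ : A.subgroupOf (p.S : Subgroup G) ≤ Z := fun a ha => mem_center_iff.2 fun s =>
    Subtype.ext (h ⟨(s : G), p.hSN s.2⟩ (a : G) ha)
  have hZcard : Nat.card Z ≤ 16 := by
    have hmul := Z.card_mul_index
    rw [p.hS64] at hmul
    by_contra hgt
    have hi : Z.index = 1 ∨ Z.index = 2 := by
      have hpos : 0 < Z.index := Nat.pos_of_ne_zero index_ne_zero_of_finite
      have h3 : Z.index < 4 := by nlinarith
      interval_cases hh : Z.index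
      · exact Or.inl rfl
      · exact Or.inr rfl
      · omega
    obtain ⟨x, y, hxy⟩ := p.hnc
    rcases hi with hi | hi
    · rw [index_eq_one] at hi
      exact hxy (mem_center_iff.1 (show y ∈ Z from hi ▸ mem_top y) x)
    · by_cases hx : x ∈ Z
      · exact hxy (mem_center_iff.1 hx y).symm
      by_cases hy : y ∈ Z
      · exact hxy (mem_center_iff.1 hy x)
      have hd : x⁻¹ * y ∈ Z := (mul_mem_iff_of_index_two hi).2 (iff_of_false (by simpa using hx) hy)
      have h5 := (mem_center_iff.1 hd x)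
      apply hxy
      calc x * y = x * (x * (x⁻¹ * y)) := by group
        _ = x * ((x⁻¹ * y) * x) := by rw [h5]
        _ = y * x := by group
  have hZA : Z = A.subgroupOf (p.S : Subgroup G) := (eq_of_le_of_card_ge hAZ (by
    rw [Nat.card_congr (subgroupOfEquivOfLe p.hAS).toEquiv, p.h16]; exact hZcard)).symm
  have hNS : normalizer ((p.S : Subgroup G) : Set G) ≤ normalizer (A : Set G) := by
    intro g hg
    refine mem_normalizer_fintype fun a ha => ?_
    have h1 : g * a * g⁻¹ ∈ (p.S : Subgroup G) := (mem_normalizer_iff.1 hg a).1 (p.hAS ha)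
    have h2 : (⟨_, h1⟩ : (p.S : Subgroup G)) ∈ Z := mem_center_iff.2 fun s => Subtype.ext (by
      have hs : g⁻¹ * s * g ∈ (p.S : Subgroup G) := by
        have := (mem_normalizer_iff.1 (inv_mem hg) (s : G)).1 s.2
        rwa [inv_inv] at this
      have h3 := h ⟨_, p.hSN hs⟩ a ha
      show (s : G) * (g * a * g⁻¹) = g * a * g⁻¹ * s
      calc (s : G) * (g * a * g⁻¹) = g * ((g⁻¹ * s * g) * a) * g⁻¹ := by group
        _ = g * (a * (g⁻¹ * s * g)) * g⁻¹ := by rw [h3]
        _ = g * a * g⁻¹ * s := by group)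
    rw [hZA] at h2
    exact h2
  have hSA : ∀ a ∈ A, (p.S : Subgroup G) ≤ centralizer ({a} : Set G) := fun a ha s hs =>
    mem_centralizer_singleton_iff.2 (h ⟨s, p.hSN hs⟩ a ha)
  have hle := le_classes (G := G) (fun a : {a : A // a ≠ 1} => ((a : A) : G))
    (fun a => orderOf_A p a.1.2 fun h1 => a.2 (Subtype.ext h1)) (by
      rintro ⟨⟨a, ha⟩, ha1⟩ ⟨⟨b, hb⟩, hb1⟩ hab
      obtain ⟨g, hg⟩ := isConj_iff.1 hab
      obtain ⟨n, hn, hna⟩ := Transfer.exists_normalizer_conj_of_le_centralizer p.S {a} g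
        (hSA a ha) (by rw [Set.image_singleton, show g * a * g⁻¹ = b from hg]; exact hSA b hb)
      have h1 := hna a rfl
      rw [show g * a * g⁻¹ = b from hg, h ⟨n, hNS hn⟩ a ha, mul_inv_cancel_right] at h1
      exact Subtype.ext (Subtype.ext h1))
  rw [p.three] at hle
  have : Nat.card {a : A // a ≠ 1} = 15 := by
    classical
    haveI := Fintype.ofFinite A
    rw [Nat.card_eq_fintype_card, Fintype.card_subtype_compl, Fintype.card_subtype_eq,
      ← Nat.card_eq_fintype_card, p.h16]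
  omega

theorem eq_one_of_centralizes [Finite G] {n : ↥(normalizer (A : Set G))}
    (hn : ∀ a ∈ A, (n : G) * a = a * (n : G)) : p.φ n = 1 := by
  set C := (centralizer (A : Set G)).subgroupOf (normalizer (A : Set G)) with hC
  haveI : C.Normal := by
    refine ⟨fun c hc m => mem_subgroupOf.2 (mem_centralizer_iff.2 fun a ha => ?_)⟩
    have h1 : (m : G)⁻¹ * a * m ∈ A := by
      simpa using conj_mem_A m⁻¹ ha
    have h2 := mem_centralizer_iff.1 (mem_subgroupOf.1 hc) _ h1
    show a * ((m : G) * c * (m : G)⁻¹) = (m : G) * c * (m : G)⁻¹ * a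
    calc a * ((m : G) * c * (m : G)⁻¹) = m * (((m : G)⁻¹ * a * m) * c) * (m : G)⁻¹ := by group
      _ = m * (c * ((m : G)⁻¹ * a * m)) * (m : G)⁻¹ := by rw [h2]
      _ = _ := by group
  have hCn : (C.map p.φ).Normal := Normal.map inferInstance _ p.surj_φ
  have hmem : n ∈ C := mem_subgroupOf.2 (mem_centralizer_iff.2 fun a ha => (hn a ha).symm)
  haveI := alternatingGroup.isSimpleGroup (α := Fin 5) (by simp)
  rcases hCn.eq_bot_or_eq_top with h | h
  · exact mem_bot.1 (h ▸ mem_map_of_mem _ hmem)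
  · exfalso
    obtain ⟨m, a, ha, hma⟩ := exists_move p
    obtain ⟨c, hc, hcm⟩ := (h ▸ mem_top (p.φ m) : p.φ m ∈ C.map p.φ)
    have h1 : p.φ (c⁻¹ * m) = 1 := by rw [map_mul, map_inv, hcm, inv_mul_cancel]
    have h2 := ker_centralizes p h1 ha
    have h3 := (mem_centralizer_iff.1 (mem_subgroupOf.1 hc) a ha)
    rw [Subgroup.coe_mul, InvMemClass.coe_inv] at h2
    apply hma
    calc (m : G) * a = c * ((c : G)⁻¹ * m * a) := by group
      _ = c * (a * ((c : G)⁻¹ * m)) := by rw [h2]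
      _ = (c * a) * ((c : G)⁻¹ * m) := by group
      _ = a * m := by rw [← h3]; group

/-- No nontrivial element of `A` is fixed by all of `N`. -/
theorem exists_move_fixed [Finite G] {a : G} (ha : a ∈ A) (ha1 : a ≠ 1) :
    ∃ n : ↥(normalizer (A : Set G)), (n : G) * a * (n : G)⁻¹ ≠ a := by
  classical
  by_contra h
  push Not at h
  haveI : Fact (Nat.Prime 5) := ⟨by norm_num⟩
  obtain ⟨g, hg⟩ := exists_prime_orderOf_dvd_card' (G := alternatingGroup (Fin 5)) 5
    (by rw [nat_card_alt_five]; norm_num)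
  obtain ⟨n, hn⟩ := p.surj_φ g
  have hne : orderOf n ≠ 0 := (orderOf_pos n).ne'
  obtain ⟨k, m, hm, hd⟩ := Nat.exists_eq_pow_mul_and_not_dvd hne 5 (by norm_num)
  set q := n ^ m with hq
  have hq5 : q ^ 5 ^ k = 1 := by
    rw [hq, ← pow_mul, mul_comm, ← hd, pow_orderOf_eq_one]
  have hqne : p.φ q ≠ 1 := by
    rw [hq, map_pow, hn]
    intro h1
    exact hm (hg ▸ orderOf_dvd_of_pow_eq_one h1)
  have hQ : IsPGroup 5 (zpowers q) := by
    rintro ⟨_, i, rfl⟩
    refine ⟨k, Subtype.ext ?_⟩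
    show (q ^ i) ^ 5 ^ k = 1
    rw [← zpow_natCast, ← zpow_mul, mul_comm, zpow_mul, zpow_natCast, hq5, one_zpow]
  letI : MulAction (zpowers q) A :=
    { smul := fun x a => ⟨((x : ↥(normalizer (A : Set G))) : G) * a * ((x : ↥(normalizer (A : Set G))) : G)⁻¹, conj_mem_A _ a.2⟩
      one_smul := fun a => Subtype.ext (by
        show ((1 : ↥(normalizer (A : Set G))) : G) * a * ((1 : ↥(normalizer (A : Set G))) : G)⁻¹ = a
        simp)
      mul_smul := fun x y a => Subtype.ext (by
        show ((x : ↥(normalizer (A : Set G))) : G) * (y : ↥(normalizer (A : Set G))) * a * (((x : ↥(normalizer (A : Set G))) : G) * (y : ↥(normalizer (A : Set G))))⁻¹ =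
          ((x : ↥(normalizer (A : Set G))) : G) * (((y : ↥(normalizer (A : Set G))) : G) * a * ((y : ↥(normalizer (A : Set G))) : G)⁻¹) * ((x : ↥(normalizer (A : Set G))) : G)⁻¹
        group) }
  have hmod := hQ.card_modEq_card_fixedPoints (α := A)
  let F : Subgroup A :=
    { carrier := MulAction.fixedPoints (zpowers q) A
      one_mem' := fun x => Subtype.ext (show ((x : ↥(normalizer (A : Set G))) : G) * 1 * ((x : ↥(normalizer (A : Set G))) : G)⁻¹ = 1 by group)
      mul_mem' := fun {b c} hb hc x => Subtype.ext (by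
        have h1 : ((x : ↥(normalizer (A : Set G))) : G) * b * ((x : ↥(normalizer (A : Set G))) : G)⁻¹ = b := congrArg Subtype.val (hb x)
        have h2 : ((x : ↥(normalizer (A : Set G))) : G) * c * ((x : ↥(normalizer (A : Set G))) : G)⁻¹ = c := congrArg Subtype.val (hc x)
        show ((x : ↥(normalizer (A : Set G))) : G) * ((b : G) * c) * ((x : ↥(normalizer (A : Set G))) : G)⁻¹ = (b : G) * c
        rw [← conj_mul, h1, h2])
      inv_mem' := fun {b} hb x => Subtype.ext (by
        have h1 : ((x : ↥(normalizer (A : Set G))) : G) * b * ((x : ↥(normalizer (A : Set G))) : G)⁻¹ = b := congrArg Subtype.val (hb x)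
        show ((x : ↥(normalizer (A : Set G))) : G) * (b : G)⁻¹ * ((x : ↥(normalizer (A : Set G))) : G)⁻¹ = (b : G)⁻¹
        rw [← conj_inv, h1]) }
  have hFA : Nat.card F = Nat.card (MulAction.fixedPoints (zpowers q) A) := rfl
  have ha' : (⟨a, ha⟩ : A) ∈ F := fun x => Subtype.ext (h x)
  have h2le : 2 ≤ Nat.card F := Finite.one_lt_card_iff_nontrivial.2 ⟨⟨⟨_, ha'⟩, 1, fun h1 =>
    ha1 (congrArg Subtype.val (congrArg Subtype.val h1))⟩⟩
  have hdvd : Nat.card F ∣ 16 := p.h16 ▸ card_subgroup_dvd_card F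
  rw [← hFA, p.h16, Nat.ModEq] at hmod
  have h16F : Nat.card F = 16 := by
    have hle := Nat.le_of_dvd (by norm_num) hdvd
    interval_cases hh : Nat.card F <;> first | rfl | omega
  have hFtop : F = ⊤ := eq_top_of_card_eq F (by rw [h16F, p.h16])
  refine hqne (eq_one_of_centralizes p fun b hb => ?_)
  have h1 : (⟨b, hb⟩ : A) ∈ F := hFtop ▸ mem_top _
  exact mul_inv_eq_iff_eq_mul.1 (congrArg Subtype.val (h1 ⟨q, mem_zpowers q⟩))

/-- A nontrivial element of `A` fixed by the Sylow subgroup. -/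
theorem exists_fixed [Finite G] : ∃ a ∈ A, a ≠ 1 ∧
    ∀ s ∈ (p.S : Subgroup G), s * a = a * s := by
  haveI : Fact (Nat.Prime 2) := ⟨Nat.prime_two⟩
  letI : MulAction (p.S : Subgroup G) A :=
    { smul := fun x a => ⟨(x : G) * a * (x : G)⁻¹, conj_mem_A (A := A) ⟨(x : G), p.hSN x.2⟩ a.2⟩
      one_smul := fun a => Subtype.ext (by
        show ((1 : (p.S : Subgroup G)) : G) * a * ((1 : (p.S : Subgroup G)) : G)⁻¹ = a
        simp)
      mul_smul := fun x y a => Subtype.ext (by
        show (x : G) * y * a * ((x : G) * y)⁻¹ = (x : G) * ((y : G) * a * (y : G)⁻¹) * (x : G)⁻¹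
        group) }
  have hone : (1 : A) ∈ MulAction.fixedPoints (p.S : Subgroup G) A := fun x =>
    Subtype.ext (show (x : G) * 1 * (x : G)⁻¹ = 1 by group)
  obtain ⟨b, hb, hb1⟩ := p.S.2.exists_fixed_point_of_prime_dvd_card_of_fixed_point A
    (by rw [p.h16]; norm_num) hone
  exact ⟨b, b.2, fun h => hb1 (Subtype.ext h.symm),
    fun s hs => mul_inv_eq_iff_eq_mul.1 (congrArg Subtype.val (hb ⟨s, hs⟩))⟩

/-- Conjugation by an element of `N` is determined by its image. -/
theorem conj_eq {n m : ↥(normalizer (A : Set G))} (h : p.φ n = p.φ m) {a : G} (ha : a ∈ A) :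
    (n : G) * a * (n : G)⁻¹ = (m : G) * a * (m : G)⁻¹ := by
  have h1 : p.φ (m⁻¹ * n) = 1 := by rw [map_mul, map_inv, h, inv_mul_cancel]
  have h2 := ker_centralizes p h1 ha
  rw [Subgroup.coe_mul, InvMemClass.coe_inv] at h2
  calc (n : G) * a * (n : G)⁻¹ = m * (((m : G)⁻¹ * n) * a) * (n : G)⁻¹ := by group
    _ = m * (a * ((m : G)⁻¹ * n)) * (n : G)⁻¹ := by rw [h2]
    _ = _ := by group

/-- Change of labelling. -/
def relabel (e : alternatingGroup (Fin 5) ≃* alternatingGroup (Fin 5)) : Pre A :=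
  { p with
    φ := e.toMonoidHom.comp p.φ
    surj_φ := e.surjective.comp p.surj_φ
    ker := fun n => by
      rw [← p.ker n]
      exact e.map_eq_one_iff }

/-- The involutions outside `A·O` form one class when each fixes at most four elements of `A`. -/
theorem invol_conj_of_small [Finite G]
    (h4 : ∀ n : ↥(normalizer (A : Set G)), (p.φ n : Perm (Fin 5)) = σ0 → ∃ b₁ b₂ b₃ : G, ∀ b ∈ A,
      (n : G) * b = b * (n : G) → b = 1 ∨ b = b₁ ∨ b = b₂ ∨ b = b₃)
    (x y : ↥(normalizer (A : Set G))) (hx : p.φ x ≠ 1) (hy : p.φ y ≠ 1) (hxx : (x : G) * x = 1)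
    (hyy : (y : G) * y = 1) : ∃ g : ↥(normalizer (A : Set G)), (g : G) * x * (g : G)⁻¹ = y := by
  classical
  -- reduce to elements with image `σ0`
  have red : ∀ x : ↥(normalizer (A : Set G)), p.φ x ≠ 1 → (x : G) * x = 1 →
      ∃ g : ↥(normalizer (A : Set G)), (p.φ (g * x * g⁻¹) : Perm (Fin 5)) = σ0 := by
    intro x hx hxx
    have hx2 : x * x = 1 := Subtype.ext hxx
    obtain ⟨c, hc, hcσ⟩ := exists_conj_σ0 (p.φ x : Perm (Fin 5))
      (Equiv.Perm.mem_alternatingGroup.1 (p.φ x).2)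
      (by rw [← Subgroup.coe_mul, ← map_mul, hx2, map_one, Subgroup.coe_one])
      (fun h => hx (Subtype.ext h))
    obtain ⟨g, hg⟩ := p.surj_φ ⟨c, Equiv.Perm.mem_alternatingGroup.2 hc⟩
    exact ⟨g, by rw [map_mul, map_mul, map_inv, hg]; exact hcσ⟩
  obtain ⟨g₁, hg₁⟩ := red x hx hxx
  obtain ⟨g₂, hg₂⟩ := red y hy hyy
  set x' := g₁ * x * g₁⁻¹ with hx'
  set y' := g₂ * y * g₂⁻¹ with hy'
  have hx'2 : (x' : G) * x' = 1 := by
    rw [hx', Subgroup.coe_mul, Subgroup.coe_mul, InvMemClass.coe_inv, conj_mul, hxx, mul_one,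
      mul_inv_cancel]
  have hy'2 : (y' : G) * y' = 1 := by
    rw [hy', Subgroup.coe_mul, Subgroup.coe_mul, InvMemClass.coe_inv, conj_mul, hyy, mul_one,
      mul_inv_cancel]
  suffices H : ∃ g : ↥(normalizer (A : Set G)), (g : G) * x' * (g : G)⁻¹ = y' by
    obtain ⟨g, hg⟩ := H
    refine ⟨g₂⁻¹ * g * g₁, ?_⟩
    calc ((g₂⁻¹ * g * g₁ : ↥(normalizer (A : Set G))) : G) * x * ((g₂⁻¹ * g * g₁ : ↥(normalizer (A : Set G))) : G)⁻¹
        = (g₂ : G)⁻¹ * ((g : G) * x' * (g : G)⁻¹) * g₂ := by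
          rw [hx']; simp only [Subgroup.coe_mul, InvMemClass.coe_inv]; group
      _ = y := by rw [hg, hy']; simp only [Subgroup.coe_mul, InvMemClass.coe_inv]; group
  have hker : p.φ (x'⁻¹ * y') = 1 := by
    rw [map_mul, map_inv, show p.φ y' = p.φ x' from Subtype.ext (hg₂.trans hg₁.symm),
      inv_mul_cancel]
  obtain ⟨a, ha, o, ho, hao⟩ := (p.ker _).1 hker
  have hy'e : (y' : G) = x' * a * o := by
    rw [mul_assoc (x' : G) a, ← hao, ← Subgroup.coe_mul, mul_inv_cancel_left]
  -- `x' a` is an involution and inverts `o`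
  have hxi : (x' : G)⁻¹ = x' := inv_eq_of_mul_eq_one_right hx'2
  set u' : G := (x' : G) * a with hu'
  have huN : u' ∈ normalizer (A : Set G) := mul_mem x'.2 (le_normalizer ha)
  have hxax : (x' : G) * a * x' ∈ A := by
    have := conj_mem_A x' ha
    rwa [hxi] at this
  have hu2A : u' * u' ∈ A := by
    rw [hu', show (x' : G) * a * ((x' : G) * a) = ((x' : G) * a * x') * a by group]
    exact mul_mem hxax ha
  set U : ↥(normalizer (A : Set G)) := ⟨u', huN⟩ with hU
  have hoU : U⁻¹ * o * U ∈ p.O := by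
    have := p.hOn.conj_mem o ho U⁻¹
    rwa [inv_inv] at this
  have hy2 : u' * (o : G) * (u' * (o : G)) = 1 := by
    rw [← hy'e]; exact hy'2
  have hu2O : ((U * U : ↥(normalizer (A : Set G))) : G) = ((U⁻¹ * o * U * o)⁻¹ : ↥(normalizer (A : Set G))) := by
    rw [InvMemClass.coe_inv]
    refine eq_inv_of_mul_eq_one_left ?_
    simp only [Subgroup.coe_mul, InvMemClass.coe_inv, hU]
    rw [← hy2]; group
  have hu2 : u' * u' = 1 := by
    by_contra h1
    have h2 : orderOf (U * U) = 2 := by rw [← orderOf_coe]; exact orderOf_A p hu2A h1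
    have hm : U * U ∈ p.O := by
      rw [Subtype.ext hu2O]; exact inv_mem (mul_mem hoU ho)
    have h3 := p.hO.of_dvd_nat (orderOf_dvd_natCard _ hm)
    rw [h2] at h3
    exact absurd h3 (by decide)
  have hxa : (x' : G) * a = a * x' := by
    have h1 : (x' : G) * a * ((x' : G) * a) = 1 := hu2
    rw [eq_inv_of_mul_eq_one_left h1, mul_inv_rev, hxi, inv_eq_of_mul_eq_one_right (sq_eq_one p ha)]
  -- `a` is a commutator of `x'`
  let f : A →* A :=
    { toFun := fun b => ⟨(x' : G) * b * (x' : G)⁻¹ * (b : G)⁻¹,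
        mul_mem (conj_mem_A x' b.2) (inv_mem b.2)⟩
      map_one' := Subtype.ext (show (x' : G) * 1 * (x' : G)⁻¹ * (1 : G)⁻¹ = 1 by group)
      map_mul' := fun b c => Subtype.ext (by
        show (x' : G) * (b * c) * (x' : G)⁻¹ * ((b : G) * c)⁻¹ =
          (x' : G) * b * (x' : G)⁻¹ * (b : G)⁻¹ * ((x' : G) * c * (x' : G)⁻¹ * (c : G)⁻¹)
        have hcm := commA p (inv_mem b.2)
          (mul_mem (conj_mem_A x' c.2) (inv_mem c.2))
        rw [mul_assoc _ (b : G)⁻¹, hcm]
        group) }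
  have hfix : ∀ b : A, f b = 1 ↔ (x' : G) * b = b * x' := fun b => by
    rw [Subtype.ext_iff, show ((f b : A) : G) = (x' : G) * b * (x' : G)⁻¹ * (b : G)⁻¹ from rfl,
      OneMemClass.coe_one, mul_inv_eq_one, mul_inv_eq_iff_eq_mul]
  have hrk : f.range ≤ f.ker := by
    rintro _ ⟨b, rfl⟩
    rw [MonoidHom.mem_ker, hfix]
    show (x' : G) * ((x' : G) * b * (x' : G)⁻¹ * (b : G)⁻¹) =
      (x' : G) * b * (x' : G)⁻¹ * (b : G)⁻¹ * x'
    have hbi : (b : G)⁻¹ = b := inv_eq_of_mul_eq_one_right (sq_eq_one p b.2)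
    calc (x' : G) * ((x' : G) * b * (x' : G)⁻¹ * (b : G)⁻¹)
        = ((x' : G) * x') * (b * (x' : G)⁻¹ * (b : G)⁻¹) := by group
      _ = b * x' * b := by rw [hx'2, one_mul, hxi, hbi]
      _ = (b : G)⁻¹ * ((x' : G) * b * (x' : G)⁻¹) * x' := by rw [hbi]; group
      _ = _ := by rw [commA p (inv_mem b.2) (conj_mem_A x' b.2)]
  obtain ⟨b₁, b₂, b₃, hb⟩ := h4 x' hg₁
  have hker4 : Nat.card f.ker ≤ 4 := by
    have hsub : (fun b : f.ker => ((b : A) : G)) '' Set.univ ⊆ {1, b₁, b₂, b₃} := by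
      rintro _ ⟨b, -, rfl⟩
      exact hb _ (b : A).2 ((hfix _).1 (MonoidHom.mem_ker.1 b.2))
    have hinj : Function.Injective fun b : f.ker => ((b : A) : G) :=
      Subtype.val_injective.comp Subtype.val_injective
    calc Nat.card f.ker = Set.ncard ((fun b : f.ker => ((b : A) : G)) '' Set.univ) := by
          rw [Set.ncard_image_of_injective _ hinj, Set.ncard_univ]
      _ ≤ Set.ncard ({1, b₁, b₂, b₃} : Set G) := Set.ncard_le_ncard hsub (Set.toFinite _)
      _ ≤ 4 := by
          refine (Set.ncard_insert_le _ _).trans (Nat.succ_le_succ ?_)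
          refine (Set.ncard_insert_le _ _).trans (Nat.succ_le_succ ?_)
          refine (Set.ncard_insert_le _ _).trans (Nat.succ_le_succ ?_)
          rw [Set.ncard_singleton]
  have hmul : Nat.card f.range * Nat.card f.ker = 16 := by
    rw [← index_ker, Subgroup.index_mul_card, p.h16]
  have hle := card_le_of_le hrk
  have heq : f.range = f.ker := eq_of_le_of_card_ge hrk (by nlinarith)
  obtain ⟨b, hb'⟩ := (heq ▸ MonoidHom.mem_ker.2 ((hfix ⟨a, ha⟩).2 hxa) : (⟨a, ha⟩ : A) ∈ f.range)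
  have hb'' : (x' : G) * b * (x' : G)⁻¹ * (b : G)⁻¹ = a := congrArg Subtype.val hb'
  have hconjb : (b : G) * x' * (b : G)⁻¹ = u' := by
    rw [hu', ← hb'', show (x' : G) * ((x' : G) * b * (x' : G)⁻¹ * (b : G)⁻¹) =
      ((x' : G) * x') * b * (x' : G)⁻¹ * (b : G)⁻¹ by group, hx'2, one_mul, hxi]
  have hoo : u' * (y' : G) = o := by rw [hy'e, ← mul_assoc, hu2, one_mul]
  obtain ⟨k, hk⟩ := Isolated.dihedral_conj_of_odd hu2 hy'2 (by
    rw [hoo, orderOf_coe]; exact p.hO.of_dvd_nat (orderOf_dvd_natCard _ ho))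
  refine ⟨o ^ k * ⟨b, le_normalizer b.2⟩, ?_⟩
  rw [hoo] at hk
  rw [← hk, ← hconjb]
  simp only [Subgroup.coe_mul, SubmonoidClass.coe_pow]
  group

/-- The transitive case is impossible: it would leave two classes of involutions. -/
theorem not_transitive [Finite G] {a₀ : G} (ha₀ : a₀ ∈ A) (h1 : a₀ ≠ 1)
    (hS : ∀ g : Perm (Fin 5), g ∈ V0 ↔
      ∃ n : ↥(normalizer (A : Set G)), (p.φ n : Perm (Fin 5)) = g ∧ (n : G) * a₀ * (n : G)⁻¹ = a₀)
    (htr : ∀ b ∈ A, b ≠ 1 → ∃ n : ↥(normalizer (A : Set G)), (n : G) * a₀ * (n : G)⁻¹ = b) : False := by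
  classical
  obtain ⟨C, hC⟩ := p.surj_φ ⟨c3, Equiv.Perm.mem_alternatingGroup.2 sign_c3⟩
  have h4 : ∀ n : ↥(normalizer (A : Set G)), (p.φ n : Perm (Fin 5)) = σ0 → ∃ b₁ b₂ b₃ : G, ∀ b ∈ A,
      (n : G) * b = b * (n : G) → b = 1 ∨ b = b₁ ∨ b = b₂ ∨ b = b₃ := by
    intro n hn
    refine ⟨a₀, (C : G) * a₀ * (C : G)⁻¹, (C * C : ↥(normalizer (A : Set G))) * a₀ * ((C * C : ↥(normalizer (A : Set G))) : G)⁻¹,
      fun b hb hnb => ?_⟩
    by_cases hb1 : b = 1
    · exact Or.inl hb1
    obtain ⟨m, hm⟩ := htr b hb hb1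
    have hV : ((p.φ m : Perm (Fin 5)))⁻¹ * σ0 * (p.φ m : Perm (Fin 5)) ∈ V0 := by
      refine (hS _).2 ⟨m⁻¹ * n * m, ?_, ?_⟩
      · rw [map_mul, map_mul, map_inv, Subgroup.coe_mul, Subgroup.coe_mul, InvMemClass.coe_inv, hn]
      · simp only [Subgroup.coe_mul, InvMemClass.coe_inv]
        calc (m : G)⁻¹ * n * m * a₀ * ((m : G)⁻¹ * n * m)⁻¹
            = (m : G)⁻¹ * (n * ((m : G) * a₀ * (m : G)⁻¹) * (n : G)⁻¹) * m := by group
          _ = a₀ := by rw [hm, hnb, mul_inv_cancel_right, ← hm]; group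
    obtain ⟨v, hv, hcase⟩ := conj_mem_V0 _ (Equiv.Perm.mem_alternatingGroup.1 (p.φ m).2) hV
    obtain ⟨w, hw, hwa⟩ := (hS v).1 hv
    rcases hcase with h | h | h
    · refine Or.inr (Or.inl ?_)
      rw [← hm, conj_eq p (m := w) (Subtype.ext (h.trans hw.symm)) ha₀, hwa]
    · refine Or.inr (Or.inr (Or.inl ?_))
      rw [← hm, conj_eq p (m := C * w) (Subtype.ext (by
        rw [h, map_mul, Subgroup.coe_mul, hC, hw])) ha₀]
      simp only [Subgroup.coe_mul]
      conv_rhs => rw [← hwa]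
      group
    · refine Or.inr (Or.inr (Or.inr ?_))
      rw [← hm, conj_eq p (m := C * C * w) (Subtype.ext (by
        rw [h, map_mul, map_mul, Subgroup.coe_mul, Subgroup.coe_mul, hC, hw])) ha₀]
      simp only [Subgroup.coe_mul]
      conv_rhs => rw [← hwa]
      group
  have hinv := invol_conj_of_small p h4
  by_cases ht : ∃ t : ↥(normalizer (A : Set G)), p.φ t ≠ 1 ∧ (t : G) * t = 1
  swap
  · have hall : ∀ x : G, orderOf x = 2 → ∃ i : Fin 1, IsConj x ((fun _ => a₀) i) := by
      intro x hx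
      obtain ⟨g, hg⟩ := exists_conj_mem p.S hx
      have hgg : g * x * g⁻¹ * (g * x * g⁻¹) = 1 := by
        rw [conj_mul, ← sq, ← hx, pow_orderOf_eq_one, mul_one, mul_inv_cancel]
      have hgA : g * x * g⁻¹ ∈ A := by
        refine (memA' p (n := ⟨_, p.hSN hg⟩) hg).1 (not_not.1 fun hne => ht ⟨_, hne, hgg⟩)
      obtain ⟨m, hm⟩ := htr _ hgA (fun h => by
        rw [conj_eq_one_iff] at h; rw [h, orderOf_one] at hx; omega)
      exact ⟨0, (isConj_iff.2 ⟨g, rfl⟩).trans (isConj_iff.2 ⟨(m : G), hm⟩).symm⟩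
    have := classes_le _ hall
    have := p.three
    omega
  · obtain ⟨t, ht1, ht2⟩ := ht
    have hall : ∀ x : G, orderOf x = 2 → ∃ i : Fin 2, IsConj x (![a₀, (t : G)] i) := by
      intro x hx
      obtain ⟨g, hg⟩ := exists_conj_mem p.S hx
      have hgg : g * x * g⁻¹ * (g * x * g⁻¹) = 1 := by
        rw [conj_mul, ← sq, ← hx, pow_orderOf_eq_one, mul_one, mul_inv_cancel]
      by_cases hgA : g * x * g⁻¹ ∈ A
      · obtain ⟨m, hm⟩ := htr _ hgA (fun h => by
          rw [conj_eq_one_iff] at h; rw [h, orderOf_one] at hx; omega)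
        exact ⟨0, (isConj_iff.2 ⟨g, rfl⟩).trans (isConj_iff.2 ⟨(m : G), hm⟩).symm⟩
      · obtain ⟨m, hm⟩ := hinv ⟨_, p.hSN hg⟩ t (fun h => hgA ((memA' p hg).1 h)) ht1 hgg ht2
        exact ⟨1, (isConj_iff.2 ⟨g, rfl⟩).trans (isConj_iff.2 ⟨(m : G), hm⟩)⟩
    have := classes_le _ hall
    have := p.three
    omega

/-- The orbit case gives a frame. -/
noncomputable def frameOfLabels [Finite G] (e : Fin 5 → G) (he : ∀ i, e i ∈ A)
    (hinj : Function.Injective e)
    (h1 : ∀ i, e i ≠ 1) (heq : ∀ (n : ↥(normalizer (A : Set G))) i, (n : G) * e i * (n : G)⁻¹ = e ((p.φ n : Perm (Fin 5)) i))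
    (h4fix : ∀ n : ↥(normalizer (A : Set G)), (n : G) ∈ (p.S : Subgroup G) → (p.φ n : Perm (Fin 5)) 4 = 4) : Frame A := by
  classical
  letI : CommGroup A := { (inferInstance : Group A) with mul_comm := p.hA.1.is_comm.comm }
  let e' : Fin 5 → A := fun i => ⟨e i, he i⟩
  let P : Finset (Fin 5) → G := fun s => ((∏ i ∈ s, e' i : A) : G)
  have hPmem : ∀ s, P s ∈ A := fun s => (∏ i ∈ s, e' i).2
  have hPone : P ∅ = 1 := by simp [P]
  have hsingle : ∀ i, P {i} = e i := fun i => by simp [P, e']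
  have hconj : ∀ (n : ↥(normalizer (A : Set G))) (s : Finset (Fin 5)),
      (n : G) * P s * (n : G)⁻¹ = P (s.image (p.φ n : Perm (Fin 5))) := by
    intro n s
    induction s using Finset.induction_on with
    | empty => simp [hPone]
    | insert i s hi ih =>
      have e1 : P (insert i s) = e i * P s := by simp [P, e', Finset.prod_insert hi]
      have hni : (p.φ n : Perm (Fin 5)) i ∉ s.image (p.φ n : Perm (Fin 5)) := fun h => hi (by
        obtain ⟨j, hj, hji⟩ := Finset.mem_image.1 h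
        exact (p.φ n : Perm (Fin 5)).injective hji ▸ hj)
      rw [Finset.image_insert, e1, ← conj_mul, ih, heq]
      show _ = ((∏ x ∈ insert _ _, e' x : A) : G)
      rw [Finset.prod_insert hni, Subgroup.coe_mul]
  have hmul : ∀ s t, P s * P t = P (symmDiff s t) := by
    intro s t
    show ((∏ i ∈ s, e' i : A) : G) * ((∏ i ∈ t, e' i : A) : G) = _
    rw [← Subgroup.coe_mul]
    refine congrArg Subtype.val ?_
    have hd : Disjoint (s \ t) (t \ s) := disjoint_sdiff_sdiff
    rw [symmDiff_def, Finset.sup_eq_union, Finset.prod_union hd,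
      ← Finset.prod_inter_mul_prod_diff s t e', ← Finset.prod_inter_mul_prod_diff t s e',
      Finset.inter_comm t s]
    have hsq : ∀ a : A, a * a = 1 := fun a => Subtype.ext (sq_eq_one p a.2)
    rw [mul_mul_mul_comm, hsq, one_mul]
  have huniv : P Finset.univ = 1 := by
    by_contra h
    obtain ⟨n, hn⟩ := exists_move_fixed p (hPmem Finset.univ) h
    refine hn ?_
    rw [hconj, Finset.image_univ_equiv (p.φ n : Perm (Fin 5))]
  have hcompl : ∀ r : Finset (Fin 5), P rᶜ = P r := by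
    intro r
    have := hmul r Finset.univ
    rw [huniv, mul_one, ← Finset.top_eq_univ, symmDiff_top] at this
    exact this.symm
  have hne : ∀ r, P r = 1 → r = ∅ ∨ r = Finset.univ := by
    intro r hr
    have hpair : ∀ i j, i ≠ j → P {i, j} ≠ 1 := by
      intro i j hij h
      have h2 : e i * e j = 1 := by
        rw [← h]; simp [P, e', Finset.prod_pair hij]
      refine hij (hinj ?_)
      rw [eq_inv_of_mul_eq_one_left h2, inv_eq_of_mul_eq_one_right (sq_eq_one p (he j))]
    rcases finset_cases r with h | h | ⟨i, h | h⟩ | ⟨i, j, hij, h | h⟩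
    · exact Or.inl h
    · exact Or.inr h
    · rw [h, hsingle] at hr; exact absurd hr (h1 i)
    · rw [← hcompl, h, hsingle] at hr; exact absurd hr (h1 i)
    · rw [h] at hr; exact absurd hr (hpair i j hij)
    · rw [← hcompl, h] at hr; exact absurd hr (hpair i j hij)
  have hPeq : ∀ s t, P s = P t ↔ s = t ∨ s = tᶜ := by
    intro s t
    refine ⟨fun h => ?_, fun h => h.elim (congrArg P) fun h => h ▸ hcompl t⟩
    have h2 : P (symmDiff s t) = 1 := by rw [← hmul, h, sq_eq_one p (hPmem t)]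
    rcases hne _ h2 with h3 | h3
    · exact Or.inl (symmDiff_eq_bot.1 h3)
    · refine Or.inr ?_
      rw [← Finset.top_eq_univ] at h3
      exact ((symmDiff_eq_top _ _).1 h3).eq_compl
  have hsurj : ∀ a ∈ A, ∃ s, P s = a := by
    haveI := Fintype.ofFinite A
    let f : {s : Finset (Fin 5) // (4 : Fin 5) ∉ s} → A := fun s => ⟨P s.1, hPmem _⟩
    have hf : Function.Injective f := by
      rintro ⟨s, hs⟩ ⟨t, ht⟩ hst
      rcases (hPeq s t).1 (congrArg Subtype.val hst) with h | h
      · exact Subtype.ext h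
      · exact absurd (h ▸ Finset.mem_compl.2 ht : (4 : Fin 5) ∈ s) hs
    have hb : Function.Bijective f := (Fintype.bijective_iff_injective_and_card f).2 ⟨hf, by
      rw [← Nat.card_eq_fintype_card (α := A), p.h16]; decide⟩
    intro a ha
    obtain ⟨s, hs⟩ := hb.2 ⟨a, ha⟩
    exact ⟨s.1, congrArg Subtype.val hs⟩
  exact
  { S := p.S
    hA := p.hA
    h16 := p.h16
    hS64 := p.hS64
    hAS := p.hAS
    hSN := p.hSN
    φ := (alternatingGroup (Fin 5)).subtype.comp p.φ
    sign_φ := fun n => Equiv.Perm.mem_alternatingGroup.1 (p.φ n).2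
    surj_φ := fun g hg => by
      obtain ⟨n, hn⟩ := p.surj_φ ⟨g, Equiv.Perm.mem_alternatingGroup.2 hg⟩
      exact ⟨n, congrArg Subtype.val hn⟩
    memA := fun n hn => by
      rw [← memA' p hn]
      exact ⟨fun h => Subtype.ext h, fun h => congrArg Subtype.val h⟩
    cent := fun n => ⟨fun h a ha => ker_centralizes p (Subtype.ext h) ha,
      fun h => congrArg Subtype.val (eq_one_of_centralizes p h)⟩
    fix4 := h4fix
    P := P
    P_mem := hPmem
    P_surj := hsurj
    P_mul := hmul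
    P_eq := hPeq
    P_conj := hconj
    invol_conj := fun x y hx hy => invol_conj_of_small p (fun n hn => by
      refine ⟨P {4}, P {0, 1}, P {2, 3}, fun b hb hnb => ?_⟩
      obtain ⟨s, rfl⟩ := hsurj b hb
      have h := hconj n s
      rw [hnb, mul_inv_cancel_right, hn, hPeq] at h
      have key : ∀ s : Finset (Fin 5), (s = s.image σ0 ∨ s = (s.image σ0)ᶜ) →
          ∃ t ∈ ({∅, {4}, {0, 1}, {2, 3}} : Finset (Finset (Fin 5))), s = t ∨ s = tᶜ := by
        decide +kernel
      obtain ⟨t, ht, hst⟩ := key s h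
      have hPs : P s = P t := (hPeq s t).2 hst
      simp only [Finset.mem_insert, Finset.mem_singleton] at ht
      rcases ht with rfl | rfl | rfl | rfl
      · exact Or.inl (hPs.trans hPone)
      · exact Or.inr (Or.inl hPs)
      · exact Or.inr (Or.inr (Or.inl hPs))
      · exact Or.inr (Or.inr (Or.inr hPs))) x y
        (fun h => hx (congrArg Subtype.val h)) (fun h => hy (congrArg Subtype.val h))
    three := p.three }

set_option maxHeartbeats 1000000 in
/-- The frame. -/
theorem exists_frame [Finite G] : Nonempty (Frame A) := by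
  classical
  haveI : Fact (Nat.Prime 2) := ⟨Nat.prime_two⟩
  haveI := alternatingGroup.isSimpleGroup (α := Fin 5) (by simp)
  obtain ⟨a, ha, ha1, hSa⟩ := exists_fixed p
  set K := (centralizer ({a} : Set G)).subgroupOf (normalizer (A : Set G)) with hK
  set H := K.map p.φ with hH
  have hKmem : ∀ n : ↥(normalizer (A : Set G)), n ∈ K ↔ (n : G) * a * (n : G)⁻¹ = a := fun n => by
    rw [hK, mem_subgroupOf, mem_centralizer_singleton_iff, mul_inv_eq_iff_eq_mul]
  have hHmem : ∀ n : ↥(normalizer (A : Set G)), p.φ n ∈ H ↔ (n : G) * a * (n : G)⁻¹ = a := by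
    intro n
    refine ⟨?_, fun h => mem_map_of_mem _ ((hKmem n).2 h)⟩
    rintro ⟨m, hm, hmn⟩
    rw [conj_eq p hmn.symm ha]
    exact (hKmem m).1 hm
  set VS := ((p.S : Subgroup G).subgroupOf (normalizer (A : Set G))).map p.φ with hVS
  have hVH : VS ≤ H := by
    rintro _ ⟨n, hn, rfl⟩
    exact (hHmem n).2 (mul_inv_eq_iff_eq_mul.2 (hSa _ hn))
  have hV4 : Nat.card VS = 4 := by
    set f := p.φ.comp (Subgroup.inclusion p.hSN) with hf
    have hr : f.range = VS := by
      rw [hVS, hf, MonoidHom.range_comp]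
      congr 1
      ext x
      simp [mem_subgroupOf]
    have hker : f.ker = A.subgroupOf (p.S : Subgroup G) := by
      ext x
      rw [MonoidHom.mem_ker, mem_subgroupOf]
      exact memA' p (n := Subgroup.inclusion p.hSN x) x.2
    have h := f.ker.index_mul_card
    rw [index_ker, hr, hker, p.hS64, Nat.card_congr (subgroupOfEquivOfLe p.hAS).toEquiv, p.h16] at h
    omega
  have h4H : 4 ∣ Nat.card H := hV4 ▸ card_dvd_of_le hVH
  have hcardH : Nat.card H * H.index = 60 := by
    rw [H.card_mul_index, nat_card_alt_five]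
  have hHtop : H ≠ ⊤ := by
    intro h
    obtain ⟨n, hn⟩ := exists_move_fixed p ha ha1
    exact hn ((hHmem n).1 (h ▸ mem_top _))
  have hHidx : H.index ≠ 1 := fun h => hHtop (index_eq_one.1 h)
  have hperm : Function.Injective (MulAction.toPermHom (alternatingGroup (Fin 5))
      (alternatingGroup (Fin 5) ⧸ H)) := by
    rw [← MonoidHom.ker_eq_bot_iff]
    rcases (inferInstance : (MulAction.toPermHom (alternatingGroup (Fin 5))
      (alternatingGroup (Fin 5) ⧸ H)).ker.Normal).eq_bot_or_eq_top with h | h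
    · exact h
    · exfalso
      refine hHtop (eq_top_iff.2 fun g _ => ?_)
      have h1 := MonoidHom.mem_ker.1 (h ▸ mem_top g : g ∈ (MulAction.toPermHom
        (alternatingGroup (Fin 5)) (alternatingGroup (Fin 5) ⧸ H)).ker)
      have h2 : g • ((1 : alternatingGroup (Fin 5)) : alternatingGroup (Fin 5) ⧸ H) =
          ((1 : alternatingGroup (Fin 5)) : alternatingGroup (Fin 5) ⧸ H) := by
        simpa using Equiv.congr_fun h1 ((1 : alternatingGroup (Fin 5)) : _ ⧸ H)
      rw [MulAction.Quotient.smul_coe, smul_eq_mul, mul_one, eq_comm, QuotientGroup.eq, inv_one,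
        one_mul] at h2
      exact h2
  have hfac : 60 ≤ Nat.factorial H.index := by
    have h := Nat.card_le_card_of_injective _ hperm
    rwa [Nat.card_perm, ← index_eq_card, nat_card_alt_five] at h
  have hidx : H.index = 5 ∨ H.index = 15 := by
    obtain ⟨j, hj⟩ := h4H
    rw [hj] at hcardH
    have h15 : H.index ∣ 15 := ⟨j, by nlinarith⟩
    have hd := Nat.mem_divisors.2 ⟨h15, (by norm_num : (15 : ℕ) ≠ 0)⟩
    rw [show Nat.divisors 15 = {1, 3, 5, 15} by decide +kernel] at hd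
    simp only [Finset.mem_insert, Finset.mem_singleton] at hd
    rcases hd with h | h | h | h
    · exact absurd h hHidx
    · rw [h] at hfac; exact absurd hfac (by decide)
    · exact Or.inl h
    · exact Or.inr h
  set lift := Function.surjInv p.surj_φ with hlift
  have hl : ∀ g, p.φ (lift g) = g := Function.surjInv_eq p.surj_φ
  let ι : alternatingGroup (Fin 5) ⧸ H → G := fun q =>
    (lift q.out : G) * a * (lift q.out : G)⁻¹
  have hι : ∀ n : ↥(normalizer (A : Set G)), ι (p.φ n : alternatingGroup (Fin 5) ⧸ H) = (n : G) * a * (n : G)⁻¹ := by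
    intro n
    obtain ⟨⟨h, hh⟩, hout⟩ := QuotientGroup.mk_out_eq_mul H (p.φ n)
    obtain ⟨m, hm, rfl⟩ := hh
    show (lift _ : G) * a * (lift _ : G)⁻¹ = _
    rw [conj_eq p (m := n * m) (by rw [hl, map_mul]; exact hout) ha, Subgroup.coe_mul]
    have h2 := (hKmem m).1 hm
    calc (n : G) * m * a * ((n : G) * m)⁻¹ = n * ((m : G) * a * (m : G)⁻¹) * (n : G)⁻¹ := by group
      _ = _ := by rw [h2]
  have hιinj : Function.Injective ι := by
    intro q r h
    induction q using QuotientGroup.induction_on with | _ g => ?_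
    induction r using QuotientGroup.induction_on with | _ k => ?_
    rw [← hl g, ← hl k, hι, hι] at h
    rw [QuotientGroup.eq, ← hl g, ← hl k, ← map_inv, ← map_mul, hHmem, Subgroup.coe_mul,
      InvMemClass.coe_inv]
    calc (lift g : G)⁻¹ * lift k * a * ((lift g : G)⁻¹ * lift k)⁻¹
        = (lift g : G)⁻¹ * ((lift k : G) * a * (lift k : G)⁻¹) * lift g := by group
      _ = a := by rw [← h]; group
  have hιA : ∀ q, ι q ∈ A := fun q => conj_mem_A _ ha
  rcases hidx with h5 | h15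
  · -- five points
    haveI := Fintype.ofFinite (alternatingGroup (Fin 5) ⧸ H)
    have hc : Fintype.card (alternatingGroup (Fin 5) ⧸ H) = 5 := by
      rw [← Nat.card_eq_fintype_card, ← index_eq_card, h5]
    let ε₀ := Fintype.equivFinOfCardEq hc
    let ε := ε₀.trans (Equiv.swap (ε₀ ((1 : alternatingGroup (Fin 5)) : _)) 4)
    have hε1 : ε ((1 : alternatingGroup (Fin 5)) : _) = 4 := by simp [ε]
    let ψ : alternatingGroup (Fin 5) →* Perm (Fin 5) :=
      (Equiv.permCongrHom ε).toMonoidHom.comp (MulAction.toPermHom _ _)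
    have hψinj : Function.Injective ψ := (Equiv.permCongrHom ε).injective.comp hperm
    have hψsign : ∀ g, ψ g ∈ alternatingGroup (Fin 5) := by
      intro g
      rw [Equiv.Perm.mem_alternatingGroup]
      rcases (inferInstance : (Perm.sign.comp ψ).ker.Normal).eq_bot_or_eq_top with h | h
      · exfalso
        have := Nat.card_le_card_of_injective _ ((MonoidHom.ker_eq_bot_iff _).1 h)
        rw [nat_card_alt_five, Nat.card_eq_fintype_card, Fintype.card_units_int] at this
        omega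
      · exact MonoidHom.mem_ker.1 (h ▸ mem_top g : g ∈ (Perm.sign.comp ψ).ker)
    let ψ' : alternatingGroup (Fin 5) →* alternatingGroup (Fin 5) := ψ.codRestrict _ hψsign
    have hψ' : Function.Bijective ψ' := by
      have hi : Function.Injective ψ' := fun x y h => hψinj (congrArg Subtype.val h)
      exact ⟨hi, Finite.surjective_of_injective hi⟩
    let p' := relabel p (MulEquiv.ofBijective ψ' hψ')
    have hp' : ∀ n : ↥(normalizer (A : Set G)), (p'.φ n : Perm (Fin 5)) = ψ (p.φ n) := fun n => rfl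
    refine ⟨frameOfLabels p' (fun i => ι (ε.symm i)) (fun i => hιA _)
      (hιinj.comp ε.symm.injective) ?_ ?_ ?_⟩
    · intro i h
      exact ha1 (conj_eq_one_iff.1 h)
    · intro n i
      rw [hp']
      show (n : G) * ι (ε.symm i) * (n : G)⁻¹ = ι (ε.symm (ε (p.φ n • ε.symm i)))
      rw [Equiv.symm_apply_apply]
      generalize ε.symm i = q
      induction q using QuotientGroup.induction_on with | _ g => ?_
      rw [MulAction.Quotient.smul_coe, smul_eq_mul, ← hl g, ← map_mul, hι, hι, Subgroup.coe_mul]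
      group
    · intro n hn
      rw [hp']
      show ε (p.φ n • ε.symm 4) = 4
      rw [← hε1, Equiv.symm_apply_apply, MulAction.Quotient.smul_coe, smul_eq_mul, mul_one]
      exact congrArg ε (QuotientGroup.eq.2 (by
        rw [mul_one]; exact inv_mem (hVH ⟨n, hn, rfl⟩)))
  · -- transitive
    exfalso
    have hH4 : Nat.card H = 4 := by rw [h15] at hcardH; omega
    have hHne : H ≠ ⊥ := fun h => by rw [h, card_bot] at hH4; omega
    obtain ⟨σ, hσ⟩ := exists_prime_orderOf_dvd_card' (G := H) 2 (by rw [hH4]; norm_num)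
    rw [← Subgroup.orderOf_coe] at hσ
    have hσ2 : ((σ : alternatingGroup (Fin 5)) : Perm (Fin 5)) * σ = 1 := by
      rw [← Subgroup.coe_mul, ← sq, ← hσ, pow_orderOf_eq_one, OneMemClass.coe_one]
    obtain ⟨c, hc, hcσ⟩ := exists_conj_σ0 _ (Equiv.Perm.mem_alternatingGroup.1
      (σ : alternatingGroup (Fin 5)).2) hσ2 (fun h => by
        rw [show (σ : alternatingGroup (Fin 5)) = 1 from Subtype.ext h, orderOf_one] at hσ
        omega)
    set c' : alternatingGroup (Fin 5) := ⟨c, Equiv.Perm.mem_alternatingGroup.2 hc⟩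
    let p' := relabel p (MulAut.conj c')
    have hp' : ∀ n : ↥(normalizer (A : Set G)), (p'.φ n : Perm (Fin 5)) = c * (p.φ n : Perm (Fin 5)) * c⁻¹ := fun n => rfl
    have hcomm : ∀ x ∈ H, ∀ y ∈ H, x * y = y * x := by
      haveI : Fact (Nat.Prime 2) := ⟨Nat.prime_two⟩
      have hc2 : IsMulCommutative H :=
        IsPGroup.isMulCommutative_of_card_eq_prime_sq (p := 2) (by rw [hH4]; norm_num)
      exact fun x hx y hy => congrArg Subtype.val (hc2.is_comm.comm ⟨x, hx⟩ ⟨y, hy⟩)
    have hsub : ∀ x : H, c * ((x : alternatingGroup (Fin 5)) : Perm (Fin 5)) * c⁻¹ ∈ V0 := by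
      intro x
      refine mem_V0_of_commute _ ?_ ?_
      · rw [map_mul, map_mul, map_inv, hc, Equiv.Perm.mem_alternatingGroup.1
          (x : alternatingGroup (Fin 5)).2, inv_one, mul_one, mul_one]
      · rw [← hcσ, conj_mul, conj_mul]
        have := congrArg Subtype.val (hcomm x x.2 σ σ.2)
        rw [Subgroup.coe_mul, Subgroup.coe_mul] at this
        rw [this]
    haveI := Fintype.ofFinite H
    have himg : Finset.univ.image (fun x : H => c * ((x : alternatingGroup (Fin 5)) :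
        Perm (Fin 5)) * c⁻¹) = V0 := by
      refine Finset.eq_of_subset_of_card_le (fun y hy => ?_) ?_
      · obtain ⟨x, -, rfl⟩ := Finset.mem_image.1 hy
        exact hsub x
      · rw [card_V0, Finset.card_image_of_injective _ (fun x y h => Subtype.ext (Subtype.ext
          (mul_left_cancel (mul_right_cancel h)))), Finset.card_univ, ← Nat.card_eq_fintype_card, hH4]
    refine not_transitive p' ha ha1 (fun g => ⟨fun hg => ?_, ?_⟩) ?_
    · rw [← himg] at hg
      obtain ⟨⟨x, hx⟩, -, rfl⟩ := Finset.mem_image.1 hg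
      obtain ⟨m, hm, rfl⟩ := hx
      exact ⟨m, hp' m, (hKmem m).1 hm⟩
    · rintro ⟨n, rfl, hn⟩
      rw [hp']
      exact hsub ⟨p.φ n, (hHmem n).2 hn⟩
    · intro b hb hb1
      haveI := Fintype.ofFinite A
      haveI := Fintype.ofFinite (alternatingGroup (Fin 5) ⧸ H)
      let f : alternatingGroup (Fin 5) ⧸ H → {x : A // x ≠ 1} := fun q =>
        ⟨⟨ι q, hιA q⟩, fun h => ha1 (conj_eq_one_iff.1 (congrArg Subtype.val h))⟩
      have hf : Function.Bijective f := (Fintype.bijective_iff_injective_and_card f).2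
        ⟨fun q r h => hιinj (congrArg (fun x : {x : A // x ≠ 1} => ((x : A) : G)) h), by
          rw [← Nat.card_eq_fintype_card, ← index_eq_card, h15, Fintype.card_subtype_compl,
            Fintype.card_subtype_eq, ← Nat.card_eq_fintype_card, p.h16]⟩
      obtain ⟨q, hq⟩ := hf.2 ⟨⟨b, hb⟩, fun h => hb1 (congrArg Subtype.val h)⟩
      exact ⟨lift q.out, congrArg (fun x : {x : A // x ≠ 1} => ((x : A) : G)) hq⟩

end Pre

/-- The hypotheses of row S3197 give the unpacked ones. -/
theorem exists_pre [Finite G] (S : Sylow 2 G) (Q : Sylow 2 ↥(alternatingGroup (Fin 8)))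
    (hS : Nonempty (↥(S : Subgroup G) ≃* ↥(Q : Subgroup ↥(alternatingGroup (Fin 8)))))
    (h3 : Nat.card {c : ConjClasses G // ∃ x ∈ c.carrier, orderOf x = 2} = 3)
    {A : Subgroup G} (hA : Cfsg.IsElementaryAbelian 2 A) (hA16 : Nat.card ↥A = 16)
    (N : Subgroup G) (hN : N = Subgroup.normalizer (A : Set G))
    (hNA : ∃ (_ : (A.subgroupOf N ⊔ Cfsg.oddCore ↥N).Normal),
      Nonempty (↥N ⧸ (A.subgroupOf N ⊔ Cfsg.oddCore ↥N) ≃* ↥(alternatingGroup (Fin 5)))) :
    Nonempty (Pre A) := by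
  haveI : Fact (Nat.Prime 2) := ⟨Nat.prime_two⟩
  subst hN
  obtain ⟨hn, ⟨e⟩⟩ := hNA
  set N := normalizer (A : Set G) with hN
  set L := A.subgroupOf N ⊔ oddCore ↥N with hL
  haveI := hn
  obtain ⟨f⟩ := hS
  have hS64 : ∀ T : Sylow 2 G, Nat.card (T : Subgroup G) = 64 := fun T => by
    rw [T.card_eq_multiplicity, ← S.card_eq_multiplicity, Nat.card_congr f.toEquiv,
      card_sylow_alt_eight]
  have hAN : A ≤ N := le_normalizer
  have hA' : Nat.card (A.subgroupOf N) = 16 := by
    rw [Nat.card_congr (subgroupOfEquivOfLe hAN).toEquiv, hA16]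
  have h64 : 2 ^ 6 ∣ Nat.card N := by
    have h1 : 16 ∣ Nat.card L := hA' ▸ card_dvd_of_le le_sup_left
    have h2 : L.index = 60 := by
      rw [index_eq_card, Nat.card_congr e.toEquiv, nat_card_alt_five]
    rw [← L.card_mul_index, h2]
    obtain ⟨j, hj⟩ := h1
    exact ⟨15 * j, by rw [hj]; ring⟩
  obtain ⟨R, hR⟩ := Sylow.exists_subgroup_card_pow_prime 2 h64
  have hRp : IsPGroup 2 R := IsPGroup.of_card hR
  obtain ⟨RS, hRS⟩ := hRp.exists_le_sylow
  have hmapcard : Nat.card ((RS : Subgroup N).map N.subtype) = 64 := by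
    refine le_antisymm ?_ ?_
    · obtain ⟨T, hT⟩ := (RS.2.map N.subtype).exists_le_sylow
      exact hS64 T ▸ card_le_of_le hT
    · rw [card_map_of_injective N.subtype_injective, show (64 : ℕ) = 2 ^ 6 by norm_num, ← hR]
      exact card_le_of_le hRS
  obtain ⟨T, hT⟩ := (RS.2.map N.subtype).exists_le_sylow
  have hTeq : (T : Subgroup G) = (RS : Subgroup N).map N.subtype :=
    (eq_of_le_of_card_ge hT (by rw [hS64 T, hmapcard])).symm
  have hAnorm : (A.subgroupOf N).Normal := normal_subgroupOf_of_le_normalizer le_rfl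
  have hA2 : IsPGroup 2 (A.subgroupOf N) := IsPGroup.of_card (n := 4) (by rw [hA']; norm_num)
  have hAle : A.subgroupOf N ≤ (RS : Subgroup N) := by
    haveI := hAnorm
    have h := RS.is_maximal' (hA2.to_sup_of_normal_left RS.2) le_sup_right
    exact h ▸ le_sup_left
  have hOodd : Odd (Nat.card (oddCore ↥N)) := by
    rw [← Nat.not_even_iff_odd, even_iff_two_dvd]
    exact PSolvable.pPrimeCore_not_dvd
  refine ⟨{
    S := T, hA := hA, h16 := hA16, hS64 := hS64 T, hnc := ?_, hAS := ?_, hSN := ?_,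
    O := oddCore ↥N, hO := hOodd, hOn := pPrimeCore_normal 2 _, hOcomm := ?_,
    φ := e.toMonoidHom.comp (QuotientGroup.mk' L),
    surj_φ := e.surjective.comp (QuotientGroup.mk'_surjective L), ker := ?_, three := h3 }⟩
  · obtain ⟨x, y, hxy⟩ := sylow_alt_eight_noncomm Q
    let g := (T.equiv S).trans f
    exact ⟨g.symm x, g.symm y, fun h => hxy (g.symm.injective (by rwa [map_mul, map_mul]))⟩
  · rw [hTeq]
    exact fun a ha => ⟨⟨a, hAN ha⟩, hAle ha, rfl⟩
  · rw [hTeq]
    exact map_subtype_le _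
  · intro o ho a ha
    have h1 : o * ⟨a, hAN ha⟩ * o⁻¹ * (⟨a, hAN ha⟩ : N)⁻¹ ∈ oddCore ↥N := by
      have h2 := (pPrimeCore_normal 2 _).conj_mem o⁻¹ (inv_mem ho) ⟨a, hAN ha⟩
      convert mul_mem ho h2 using 1
      group
    have h2 : o * ⟨a, hAN ha⟩ * o⁻¹ * (⟨a, hAN ha⟩ : N)⁻¹ ∈ A.subgroupOf N :=
      mul_mem (hAnorm.conj_mem _ ha o) (inv_mem ha)
    have h3' : (o * ⟨a, hAN ha⟩ * o⁻¹ * (⟨a, hAN ha⟩ : N)⁻¹) = 1 := by
      obtain ⟨k, hk⟩ := hA2 ⟨_, h2⟩
      have h4 := congrArg Subtype.val hk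
      have hodd := hOodd.of_dvd_nat (orderOf_dvd_natCard _ h1)
      have := Nat.eq_one_of_dvd_coprimes ((Nat.coprime_two_right.2 hodd).pow_right k) dvd_rfl
        (orderOf_dvd_of_pow_eq_one h4)
      rwa [orderOf_eq_one_iff] at this
    rw [mul_inv_eq_one, mul_inv_eq_iff_eq_mul] at h3'
    exact congrArg Subtype.val h3'
  · intro n
    show e (QuotientGroup.mk' L n) = 1 ↔ _
    rw [e.map_eq_one_iff, QuotientGroup.mk'_apply, QuotientGroup.eq_one_iff, hL,
      mem_sup_of_normal_right]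
    constructor
    · rintro ⟨a, ha, o, ho, rfl⟩
      exact ⟨a, ha, o, ho, rfl⟩
    · rintro ⟨a, ha, o, ho, h⟩
      exact ⟨⟨a, hAN ha⟩, ha, o, ho, Subtype.ext h.symm⟩

end Cfsg.Agent.Lib.A8Sylow91
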