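import Mathlib
import Cfsg.Agent.Lib.A8Sylow91.Setup
import Cfsg.Agent.Lib.A8Sylow91.Basic
import Cfsg.Agent.Lib.ZStar.Final

/-!
Fusion of the involutions in the frame of row S3197, and the centralizers of the two classes
meeting `A`.
-/

set_option autoImplicit false

namespace Cfsg.Agent.Lib.A8Sylow91.Frame

open Cfsg Subgroup Equiv

universe u

variable {G : Type u} [Group G]

theorem isPGroup_pair {x y : G} (hx : x * x = 1) (hy : y * y = 1) (hxy : Commute x y) :
    IsPGroup 2 (zpowers x ⊔ zpowers y : Subgroup G) := by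
  refine (isPGroup_zpowers_of_pow (k := 1) (by rw [pow_one, sq, hx])).to_sup_of_normal_right'
    (isPGroup_zpowers_of_pow (k := 1) (by rw [pow_one, sq, hy])) (zpowers_le.2 ?_)
  refine mem_normalizer_iff.2 fun h => ?_
  constructor
  · rintro ⟨i, rfl⟩
    refine ⟨i, ?_⟩
    show y ^ i = x * y ^ i * x⁻¹
    rw [(hxy.zpow_right i).eq, mul_inv_cancel_right]
  · rintro ⟨i, hi⟩
    refine ⟨i, ?_⟩
    have hi' : y ^ i = x * h * x⁻¹ := hi
    show y ^ i = h
    have h2 : x⁻¹ * y ^ i * x = y ^ i := by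
      rw [mul_assoc, ← (hxy.zpow_right i).eq, inv_mul_cancel_left]
    rw [← h2, hi']
    group

/-- An extension of a solvable group by a group of order two is solvable. -/
theorem isSolvable_of_index_two {X : Type u} [Group X] [Finite X] (K : Subgroup X) [K.Normal]
    (h2 : K.index = 2) (hK : Group.IsSolvable K) : Group.IsSolvable X := by
  haveI : Fact (Nat.Prime 2) := ⟨Nat.prime_two⟩
  haveI : Group.IsSolvable (X ⧸ K) := OddCond.isPGroup_isSolvable
    (IsPGroup.of_card (n := 1) (by rw [← index_eq_card, h2, pow_one]))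
  exact (Group.isSolvable_iff_subgroup_quotient K).2 ⟨hK, inferInstance⟩

variable {A : Subgroup G} (F : Frame A)
include F

/-- The element central in the Sylow subgroup. -/
def z : G := F.P {4}

/-- A representative of the other class meeting `A`. -/
def u₁ : G := F.P {0, 1}

theorem z_mem : F.z ∈ A := F.P_mem _

theorem u₁_mem : F.u₁ ∈ A := F.P_mem _

theorem commA {a b : G} (ha : a ∈ A) (hb : b ∈ A) : a * b = b * a :=
  congrArg Subtype.val (F.hA.1.is_comm.comm ⟨a, ha⟩ ⟨b, hb⟩)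

theorem sq_eq_one {a : G} (ha : a ∈ A) : a * a = 1 := by rw [← sq]; exact F.hA.2 a ha

theorem P_empty : F.P ∅ = 1 := by
  have h := F.P_mul ∅ ∅
  rw [symmDiff_self, Finset.bot_eq_empty] at h
  exact mul_eq_left.1 h

theorem P_compl (s : Finset (Fin 5)) : F.P sᶜ = F.P s := (F.P_eq _ _).2 (Or.inr rfl)

theorem P_eq_one {s : Finset (Fin 5)} : F.P s = 1 ↔ s = ∅ ∨ s = Finset.univ := by
  rw [← P_empty F, F.P_eq, Finset.compl_empty]

theorem orderOf_A {a : G} (ha : a ∈ A) (ha1 : a ≠ 1) : orderOf a = 2 := by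
  haveI : Fact (Nat.Prime 2) := ⟨Nat.prime_two⟩
  exact orderOf_eq_prime (F.hA.2 a ha) ha1

theorem z_ne_one : F.z ≠ 1 := by
  rw [z, Ne, P_eq_one]
  decide

theorem u₁_ne_one : F.u₁ ≠ 1 := by
  rw [u₁, Ne, P_eq_one]
  decide

theorem mem_zset {s : Finset (Fin 5)} : s ∈ zset ↔ F.P s = 1 ∨ F.P s = F.z := by
  rw [P_eq_one, z, F.P_eq]
  simp only [zset, Finset.mem_insert, Finset.mem_singleton]
  tauto

theorem fix_iff (n : normalizer (A : Set G)) (s : Finset (Fin 5)) :
    (n : G) * F.P s = F.P s * (n : G) ↔ s.image (F.φ n) = s := by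
  rw [← mul_inv_eq_iff_eq_mul, F.P_conj, F.P_eq]
  exact ⟨fun h => h.resolve_right (image_ne_compl _ (F.sign_φ n) s), Or.inl⟩

theorem φ_mem_V0 [Finite G] {n : normalizer (A : Set G)} (hn : (n : G) ∈ (F.S : Subgroup G)) :
    F.φ n ∈ V0 := by
  refine mem_V0_of_pow (F.sign_φ n) (F.fix4 n hn) ?_
  have h : n ^ 64 = 1 := Subtype.ext (by
    have h1 := pow_card_eq_one' (x := (⟨(n : G), hn⟩ : (F.S : Subgroup G)))
    rw [F.hS64] at h1
    rw [SubmonoidClass.coe_pow]
    exact congrArg Subtype.val h1)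
  rw [← map_pow, h, map_one]

theorem exists_in_S [Finite G] {g : Perm (Fin 5)} (hg : g ∈ V0) :
    ∃ n : normalizer (A : Set G), (n : G) ∈ (F.S : Subgroup G) ∧ F.φ n = g := by
  classical
  set f := F.φ.comp (Subgroup.inclusion F.hSN) with hf
  have hsub : ∀ y ∈ f.range, y ∈ V0 := by
    rintro _ ⟨x, rfl⟩
    exact φ_mem_V0 F (n := Subgroup.inclusion F.hSN x) x.2
  have hker : f.ker = A.subgroupOf (F.S : Subgroup G) := by
    ext x
    rw [MonoidHom.mem_ker, mem_subgroupOf]
    exact F.memA (Subgroup.inclusion F.hSN x) x.2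
  have h := f.ker.index_mul_card
  rw [index_ker, hker, F.hS64, Nat.card_congr (subgroupOfEquivOfLe F.hAS).toEquiv, F.h16] at h
  haveI := Fintype.ofFinite f.range
  have himg : Finset.univ.image (fun y : f.range => (y : Perm (Fin 5))) = V0 := by
    refine Finset.eq_of_subset_of_card_le (fun y hy => ?_) ?_
    · obtain ⟨x, -, rfl⟩ := Finset.mem_image.1 hy
      exact hsub _ x.2
    · rw [card_V0, Finset.card_image_of_injective _ Subtype.val_injective, Finset.card_univ,
        ← Nat.card_eq_fintype_card]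
      omega
  rw [← himg] at hg
  obtain ⟨⟨_, x, rfl⟩, -, rfl⟩ := Finset.mem_image.1 hg
  exact ⟨Subgroup.inclusion F.hSN x, x.2, rfl⟩

theorem z_central {s : G} (hs : s ∈ (F.S : Subgroup G)) : Commute s F.z := by
  show s * F.z = F.z * s
  have h := (fix_iff F ⟨s, F.hSN hs⟩ {4}).2
  rw [Finset.image_singleton, F.fix4 _ hs] at h
  exact h rfl

/-- Every involution of `A` is conjugate under `N(A)` to `z` or to `u₁`. -/
theorem exists_conj_std {s : Finset (Fin 5)} (h : F.P s ≠ 1) :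
    ∃ n : normalizer (A : Set G),
      ((s.card = 1 ∨ s.card = 4) ∧ (n : G) * F.P s * (n : G)⁻¹ = F.z) ∨
      ((s.card = 2 ∨ s.card = 3) ∧ (n : G) * F.P s * (n : G)⁻¹ = F.u₁) := by
  rw [Ne, P_eq_one, not_or] at h
  obtain ⟨g, hg, hcase⟩ := orbit_cases s h.1 h.2
  obtain ⟨n, rfl⟩ := F.surj_φ g hg
  refine ⟨n, ?_⟩
  simp only [z, u₁, F.P_conj, F.P_eq]
  exact hcase

theorem isConj_std {a : G} (ha : a ∈ A) (ha1 : a ≠ 1) : IsConj a F.z ∨ IsConj a F.u₁ := by
  obtain ⟨s, rfl⟩ := F.P_surj a ha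
  obtain ⟨n, h | h⟩ := exists_conj_std F ha1
  · exact Or.inl (isConj_iff.2 ⟨n, h.2⟩)
  · exact Or.inr (isConj_iff.2 ⟨n, h.2⟩)

variable [Finite G]

theorem exists_std {x : G} (hx : orderOf x = 2) :
    IsConj x F.z ∨ IsConj x F.u₁ ∨ ∃ t : normalizer (A : Set G),
      F.φ t ≠ 1 ∧ (t : G) * t = 1 ∧ IsConj x (t : G) := by
  obtain ⟨g, hg⟩ := exists_conj_mem F.S hx
  have hc : IsConj x (g * x * g⁻¹) := isConj_iff.2 ⟨g, rfl⟩
  by_cases hA : g * x * g⁻¹ ∈ A
  · rcases isConj_std F hA (fun h => by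
      rw [conj_eq_one_iff] at h; rw [h, orderOf_one] at hx; omega) with h | h
    · exact Or.inl (hc.trans h)
    · exact Or.inr (Or.inl (hc.trans h))
  · refine Or.inr (Or.inr ⟨⟨_, F.hSN hg⟩, fun h => hA ((F.memA _ hg).1 h), ?_, hc⟩)
    show g * x * g⁻¹ * (g * x * g⁻¹) = 1
    rw [conj_mul, ← sq, ← hx, pow_orderOf_eq_one, mul_one, mul_inv_cancel]

theorem not_conj_z_u₁ : ¬ IsConj F.z F.u₁ := by
  intro h
  have h3 := F.three
  by_cases ht : ∃ t : normalizer (A : Set G), F.φ t ≠ 1 ∧ (t : G) * t = 1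
  · obtain ⟨t, ht1, ht2⟩ := ht
    have := classes_le (G := G) ![F.z, (t : G)] fun x hx => by
      rcases exists_std F hx with h' | h' | ⟨t', ht1', ht2', h'⟩
      · exact ⟨0, h'⟩
      · exact ⟨0, h'.trans h.symm⟩
      · obtain ⟨g, hg⟩ := F.invol_conj t' t ht1' ht1 ht2' ht2
        exact ⟨1, h'.trans (isConj_iff.2 ⟨g, hg⟩)⟩
    omega
  · have := classes_le (G := G) ![F.z] fun x hx => by
      rcases exists_std F hx with h' | h' | ⟨t', ht1', ht2', -⟩
      · exact ⟨0, h'⟩
      · exact ⟨0, h'.trans h.symm⟩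
      · exact absurd ⟨t', ht1', ht2'⟩ ht
    omega

theorem not_conj_outer {t : normalizer (A : Set G)} (ht : F.φ t ≠ 1) (ht2 : (t : G) * t = 1)
    {a : G} (ha : a ∈ A) (ha1 : a ≠ 1) : ¬ IsConj a (t : G) := by
  intro h
  have h3 := F.three
  have := classes_le (G := G) ![F.z, F.u₁] fun x hx => by
    rcases exists_std F hx with h' | h' | ⟨t', ht1', ht2', h'⟩
    · exact ⟨0, h'⟩
    · exact ⟨1, h'⟩
    · obtain ⟨g, hg⟩ := F.invol_conj t' t ht1' ht ht2' ht2
      have h'' := (h'.trans (isConj_iff.2 ⟨g, hg⟩)).trans h.symm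
      rcases isConj_std F ha ha1 with hz | hu
      · exact ⟨0, h''.trans hz⟩
      · exact ⟨1, h''.trans hu⟩
  omega

/-- Strong closure of `A`. -/
theorem closed {a g : G} (ha : a ∈ A) (hg : g * a * g⁻¹ ∈ (F.S : Subgroup G)) :
    g * a * g⁻¹ ∈ A := by
  by_cases ha1 : a = 1
  · simp [ha1]
  by_contra hA
  refine not_conj_outer F (t := ⟨_, F.hSN hg⟩) (fun h => hA ((F.memA _ hg).1 h)) ?_ ha ha1
    (isConj_iff.2 ⟨g, rfl⟩)
  show g * a * g⁻¹ * (g * a * g⁻¹) = 1
  rw [conj_mul, sq_eq_one F ha, mul_one, mul_inv_cancel]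

theorem stronglyClosed : IsStronglyClosed A (F.S : Subgroup G) :=
  ⟨F.hAS, fun _ ha _ hg => closed F ha hg⟩

omit F in
/-- Conjugate to a nontrivial element of `A`. -/
def AType (A : Subgroup G) (x : G) : Prop := x ≠ 1 ∧ ∃ g : G, g * x * g⁻¹ ∈ A

omit F in
omit [Finite G] in
theorem aType_of_isConj {x a : G} (ha : a ∈ A) (ha1 : a ≠ 1) (h : IsConj x a) : AType A x := by
  obtain ⟨g, hg⟩ := isConj_iff.1 h
  refine ⟨?_, g, hg ▸ ha⟩
  rintro rfl
  exact ha1 (by simpa using hg.symm)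

theorem mem_A_of_aType {x g : G} (hx : AType A x) (hg : g * x * g⁻¹ ∈ (F.S : Subgroup G)) :
    g * x * g⁻¹ ∈ A := by
  obtain ⟨-, k, hk⟩ := hx
  have h := closed F hk (g := g * k⁻¹) (by convert hg using 1; group)
  convert h using 1
  group

theorem aType_sq {x : G} (hx : AType A x) : x * x = 1 := by
  obtain ⟨-, k, hk⟩ := hx
  have h := sq_eq_one F hk
  rwa [conj_mul, conj_eq_one_iff] at h

theorem exists_conj_closure (T : Set G) {R : Subgroup G} (hR : IsPGroup 2 R) (hT : T ⊆ R) :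
    ∃ c : G, ∀ y ∈ T, c * y * c⁻¹ ∈ (F.S : Subgroup G) := by
  haveI : Fact (Nat.Prime 2) := ⟨Nat.prime_two⟩
  obtain ⟨R', hR'⟩ := hR.exists_le_sylow
  obtain ⟨c, hc⟩ := MulAction.exists_smul_eq G R' F.S
  exact ⟨c, fun y hy => by rw [← hc]; exact mem_map_of_mem _ (hR' (hT hy))⟩

/-- Two commuting involutions conjugate into `A` are conjugate into it together. -/
theorem common {x y : G} (hx : AType A x) (hy : AType A y) (hxy : Commute x y) :
    ∃ c : G, c * x * c⁻¹ ∈ A ∧ c * y * c⁻¹ ∈ A := by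
  obtain ⟨c, hc⟩ := exists_conj_closure F {x, y}
    (isPGroup_pair (aType_sq F hx) (aType_sq F hy) hxy) (by
      rintro w (rfl | rfl)
      · exact mem_sup_left (mem_zpowers _)
      · exact mem_sup_right (mem_zpowers _))
  exact ⟨c, mem_A_of_aType F hx (hc x (Or.inl rfl)), mem_A_of_aType F hy (hc y (Or.inr rfl))⟩

omit [Finite G] in
theorem isConj_z_card {s : Finset (Fin 5)} (hne : F.P s ≠ 1) (hnc : ¬ IsConj F.z F.u₁) :
    IsConj (F.P s) F.z ↔ s.card = 1 ∨ s.card = 4 := by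
  obtain ⟨n, ⟨hc, hn⟩ | ⟨hc, hn⟩⟩ := exists_conj_std F hne
  · exact iff_of_true (isConj_iff.2 ⟨n, hn⟩) hc
  · refine iff_of_false (fun h => hnc (h.symm.trans (isConj_iff.2 ⟨n, hn⟩))) ?_
    omega

/-- An element of `z`-type and one of `u₁`-type centralize a common involution conjugate into
`A`. -/
theorem exists_link (x y : G) (hy : IsConj y F.z) (hx : IsConj x F.u₁) :
    ∃ w : G, AType A w ∧ Commute w x ∧ Commute w y := by
  have hyA := aType_of_isConj F.z_mem F.z_ne_one hy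
  have hxA := aType_of_isConj F.u₁_mem F.u₁_ne_one hx
  have hy2 := aType_sq F hyA
  have hx2 := aType_sq F hxA
  have heven : ¬ Odd (orderOf (x * y)) := by
    intro ho
    obtain ⟨k, hk⟩ := Isolated.dihedral_conj_of_odd hx2 hy2 ho
    exact not_conj_z_u₁ F ((hy.symm.trans (isConj_iff.2 ⟨_, hk⟩).symm).trans hx)
  obtain ⟨m, hm⟩ := Nat.not_odd_iff_even.1 heven
  set w := (x * y) ^ m with hw
  have hpos := orderOf_pos (x * y)
  have hw1 : w ≠ 1 := fun h => by
    have := Nat.le_of_dvd (by omega) (orderOf_dvd_of_pow_eq_one h)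
    omega
  have hww : w * w = 1 := by rw [hw, ← pow_add, ← hm, pow_orderOf_eq_one]
  have hwx : Commute w x := by
    have h1 : x * w * x⁻¹ = w := by
      conv_rhs => rw [← inv_eq_of_mul_eq_one_right hww, hw, ← inv_pow]
      rw [hw, ← conj_pow, inv_eq_of_mul_eq_one_right hx2, mul_inv_rev,
        inv_eq_of_mul_eq_one_right hx2, inv_eq_of_mul_eq_one_right hy2]
      congr 1
      simp [← mul_assoc, hx2]
    exact (mul_inv_eq_iff_eq_mul.1 h1).symm
  have hwy : Commute w y := by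
    have h1 : y = x * (x * y) := by rw [← mul_assoc, hx2, one_mul]
    rw [h1]
    exact hwx.mul_right ((Commute.refl (x * y)).pow_left m)
  refine ⟨w, ?_, hwx, hwy⟩
  by_contra hwA
  -- `y` is isolated in the centralizer of `w`
  set C := centralizer ({w} : Set G) with hC
  have hyC : y ∈ C := mem_centralizer_singleton_iff.2 hwy.eq.symm
  have hxC : x ∈ C := mem_centralizer_singleton_iff.2 hwx.eq.symm
  have hiso : IsIsolatedInvolution (⟨y, hyC⟩ : C) := by
    refine ⟨?_, fun g hg => ?_⟩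
    · haveI : Fact (Nat.Prime 2) := ⟨Nat.prime_two⟩
      rw [Subgroup.orderOf_mk]
      exact orderOf_eq_prime (by rw [sq, hy2]) hyA.1
    · set y' : G := (g : G) * y * (g : G)⁻¹ with hy'
      have hyy' : Commute y y' := congrArg Subtype.val hg
      have hy'c : IsConj y' F.z := (isConj_iff.2 ⟨(g : G), rfl⟩).symm.trans hy
      have hy'A := aType_of_isConj F.z_mem F.z_ne_one hy'c
      have hy'2 := aType_sq F hy'A
      have hwy' : Commute w y' := by
        have := mem_centralizer_singleton_iff.1 (mul_mem (mul_mem g.2 hyC) (inv_mem g.2))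
        exact this.symm
      have hp2 : IsPGroup 2 (zpowers w ⊔ (zpowers y ⊔ zpowers y') : Subgroup G) := by
        refine (isPGroup_zpowers_of_pow (k := 1) (by rw [pow_one, sq, hww])).to_sup_of_normal_right'
          (isPGroup_pair hy2 hy'2 hyy') (zpowers_le.2 ?_)
        have hle : zpowers y ⊔ zpowers y' ≤ centralizer ({w} : Set G) :=
          sup_le (zpowers_le.2 (mem_centralizer_singleton_iff.2 hwy.eq.symm))
            (zpowers_le.2 (mem_centralizer_singleton_iff.2 hwy'.eq.symm))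
        refine mem_normalizer_fintype fun h hh => ?_
        rw [← (mem_centralizer_singleton_iff.1 (hle hh)), mul_inv_cancel_right]
        exact hh
      obtain ⟨c, hc⟩ := exists_conj_closure F {w, y, y'} hp2 (by
        rintro v (rfl | rfl | rfl)
        · exact mem_sup_left (mem_zpowers _)
        · exact mem_sup_right (mem_sup_left (mem_zpowers _))
        · exact mem_sup_right (mem_sup_right (mem_zpowers _)))
      have hcw := hc w (Or.inl rfl)
      have hcy := mem_A_of_aType F hyA (hc y (Or.inr (Or.inl rfl)))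
      have hcy' := mem_A_of_aType F hy'A (hc y' (Or.inr (Or.inr rfl)))
      set W : normalizer (A : Set G) := ⟨_, F.hSN hcw⟩ with hW
      have hW1 : F.φ W ≠ 1 := fun h => hwA ⟨hw1, c, (F.memA W hcw).1 h⟩
      have hW2 : F.φ W * F.φ W = 1 := by
        rw [← map_mul, show W * W = 1 from Subtype.ext (by
          show c * w * c⁻¹ * (c * w * c⁻¹) = 1
          rw [conj_mul, hww, mul_one, mul_inv_cancel]), map_one]
      obtain ⟨s, hs⟩ := F.P_surj _ hcy
      obtain ⟨t, ht⟩ := F.P_surj _ hcy'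
      have hs1 : F.P s ≠ 1 := fun h => hyA.1 (conj_eq_one_iff.1 (hs ▸ h))
      have ht1 : F.P t ≠ 1 := fun h => hy'A.1 (conj_eq_one_iff.1 (ht ▸ h))
      have hsc := (isConj_z_card F hs1 (not_conj_z_u₁ F)).1
        (hs ▸ (isConj_iff.2 ⟨c, rfl⟩).symm.trans hy)
      have htc := (isConj_z_card F ht1 (not_conj_z_u₁ F)).1
        (ht ▸ (isConj_iff.2 ⟨c, rfl⟩).symm.trans hy'c)
      have hfs : s.image (F.φ W) = s := (fix_iff F W s).1 (by
        rw [hs]; show c * w * c⁻¹ * _ = _ * (c * w * c⁻¹); rw [conj_mul, conj_mul, hwy.eq])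
      have hft : t.image (F.φ W) = t := (fix_iff F W t).1 (by
        rw [ht]; show c * w * c⁻¹ * _ = _ * (c * w * c⁻¹); rw [conj_mul, conj_mul, hwy'.eq])
      have heq : c * y * c⁻¹ = c * y' * c⁻¹ := by
        rw [← hs, ← ht, F.P_eq]
        exact fix_single _ (F.sign_φ W) hW2 hW1 s t hsc htc hfs hft
      exact Subtype.ext (mul_left_cancel (mul_right_cancel heq)).symm
  have hz := ZStar.zStar C ⟨y, hyC⟩ hiso ⟨x, hxC⟩
  have hodd2 : Odd (orderOf ((y * x) * (y * x))) := by
    have h1 : (⟨y, hyC⟩ * ⟨x, hxC⟩ * (⟨y, hyC⟩ : C)⁻¹ * (⟨x, hxC⟩ : C)⁻¹ : C) ∈ oddCore C := hz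
    have h2 : orderOf (y * x * y⁻¹ * x⁻¹) ∣ Nat.card (oddCore C) := by
      have h3 := orderOf_dvd_natCard _ h1
      rwa [← Subgroup.orderOf_coe] at h3
    rw [inv_eq_of_mul_eq_one_right hy2, inv_eq_of_mul_eq_one_right hx2, mul_assoc (y * x)] at h2
    exact (not_two_dvd_odd.1 (by
      haveI : Fact (Nat.Prime 2) := ⟨Nat.prime_two⟩
      exact PSolvable.pPrimeCore_not_dvd)).of_dvd_nat h2
  have hyx : orderOf (y * x) = m + m := by
    rw [← hm, ← orderOf_inv (x * y), mul_inv_rev, inv_eq_of_mul_eq_one_right hy2,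
      inv_eq_of_mul_eq_one_right hx2]
  have hmodd : Odd m := by
    rwa [← sq, orderOf_pow_of_dvd (by norm_num) (by rw [hyx]; omega), hyx,
      show (m + m) / 2 = m by omega] at hodd2
  -- `x` is conjugate to `y w`, which commutes with `y`
  have hyw2 : y * w * (y * w) = 1 := by
    rw [mul_assoc, ← mul_assoc w, hwy.eq, mul_assoc y, hww, mul_one, hy2]
  have hprod : x * (y * w) = (x * y) ^ (m + 1) := by rw [← mul_assoc, pow_succ', hw]
  have hodd3 : Odd (orderOf (x * (y * w))) := by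
    refine hmodd.of_dvd_nat (orderOf_dvd_of_pow_eq_one ?_)
    obtain ⟨j, hj⟩ := hmodd
    rw [hprod, ← pow_mul, show (m + 1) * m = (m + m) * (j + 1) by rw [hj]; ring, pow_mul,
      ← hm, pow_orderOf_eq_one, one_pow]
  obtain ⟨k, hk⟩ := Isolated.dihedral_conj_of_odd hx2 hyw2 hodd3
  have hywA : AType A (y * w) :=
    aType_of_isConj F.u₁_mem F.u₁_ne_one ((isConj_iff.2 ⟨_, hk⟩).symm.trans hx)
  obtain ⟨c, hc1, hc2⟩ := common F hyA hywA ((Commute.refl y).mul_right hwy.symm)
  refine hwA ⟨hw1, c, ?_⟩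
  have e : c * w * c⁻¹ = (c * y * c⁻¹) * (c * (y * w) * c⁻¹) := by
    calc c * w * c⁻¹ = c * (y * y) * w * c⁻¹ := by rw [hy2, mul_one]
      _ = _ := by group
  rw [e]
  exact mul_mem hc1 hc2

/-! ### The centralizer of `u₁` -/

theorem card_S_inf_centralizer :
    A ≤ (F.S : Subgroup G) ⊓ centralizer ({F.u₁} : Set G) :=
  le_inf F.hAS fun a ha => mem_centralizer_singleton_iff.2 (commA F ha F.u₁_mem)

theorem mem_T {x : G} (hx : x ∈ (F.S : Subgroup G) ⊓ centralizer ({F.u₁} : Set G)) :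
    x ∈ A ∨ F.φ ⟨x, F.hSN hx.1⟩ = σ0 := by
  have h := (fix_iff F ⟨x, F.hSN hx.1⟩ {0, 1}).1 (mem_centralizer_singleton_iff.1 hx.2)
  rcases V0_fix_pair _ (φ_mem_V0 F (n := ⟨x, F.hSN hx.1⟩) hx.1) h with h1 | h1
  · exact Or.inl ((F.memA _ hx.1).1 h1)
  · exact Or.inr h1

theorem relIndex_T : A.relIndex ((F.S : Subgroup G) ⊓ centralizer ({F.u₁} : Set G)) = 2 := by
  obtain ⟨n, hnS, hn⟩ := exists_in_S F (g := σ0) (by decide +kernel)
  have hnT : (n : G) ∈ (F.S : Subgroup G) ⊓ centralizer ({F.u₁} : Set G) :=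
    ⟨hnS, mem_centralizer_singleton_iff.2 ((fix_iff F n {0, 1}).2 (by rw [hn]; decide +kernel))⟩
  have hnA : (n : G) ∉ A := fun h => by
    have := (F.memA n hnS).2 h
    rw [hn] at this
    exact absurd this (by decide +kernel)
  rw [relIndex, index_eq_two_iff]
  refine ⟨⟨n, hnT⟩, fun b => ?_⟩
  simp only [mem_subgroupOf, Subgroup.coe_mul]
  rcases mem_T F b.2 with hb | hb
  · exact Or.inr ⟨hb, fun h => hnA ((mul_mem_cancel_left hb).1 h)⟩
  · refine Or.inl ⟨(F.memA ⟨_, mul_mem (F.hSN b.2.1) (F.hSN hnS)⟩ (mul_mem b.2.1 hnS)).1 ?_,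
      fun h => ?_⟩
    · rw [show (⟨(b : G) * n, mul_mem (F.hSN b.2.1) (F.hSN hnS)⟩ : normalizer (A : Set G)) =
        ⟨(b : G), F.hSN b.2.1⟩ * n from rfl, map_mul, hb, hn]
      decide +kernel
    · have := (F.memA ⟨(b : G), F.hSN b.2.1⟩ b.2.1).2 h
      rw [hb] at this
      exact absurd this (by decide +kernel)

theorem card_T : Nat.card ((F.S : Subgroup G) ⊓ centralizer ({F.u₁} : Set G) : Subgroup G) = 32 := by
  rw [← PSolvable.card_mul_relIndex (card_S_inf_centralizer F), relIndex_T, F.h16]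

/-- A normal subgroup of index two of `C(u₁)` with Sylow subgroup `A`. -/
theorem exists_K :
    ∃ K : Subgroup ↥(centralizer ({F.u₁} : Set G)), K.Normal ∧ K.index = 2 ∧
      A ≤ K.map (centralizer ({F.u₁} : Set G)).subtype ∧
      ∀ R : Subgroup G, IsPGroup 2 R → A ≤ R → R ≤ K.map (centralizer ({F.u₁} : Set G)).subtype →
        R = A := by
  haveI : Fact (Nat.Prime 2) := ⟨Nat.prime_two⟩
  set C := centralizer ({F.u₁} : Set G) with hC
  set T := (F.S : Subgroup G) ⊓ C with hT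
  have hTC : T ≤ C := inf_le_right
  have hTp : IsPGroup 2 (T.subgroupOf C) := (F.S.2.to_le inf_le_left).comap_subtype
  have hcardT : Nat.card (T.subgroupOf C) = 32 := by
    rw [Nat.card_congr (subgroupOfEquivOfLe hTC).toEquiv, card_T]
  obtain ⟨R, hR⟩ := hTp.exists_le_sylow
  have hR32 : Nat.card (R : Subgroup C) = 32 := by
    refine le_antisymm ?_ (hcardT ▸ card_le_of_le hR)
    have hRG : IsPGroup 2 ((R : Subgroup C).map C.subtype) := R.2.map _
    obtain ⟨k, hk⟩ := IsPGroup.iff_card.1 R.2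
    rw [hk]
    by_contra hgt
    have hk6 : 6 ≤ k := by
      by_contra h
      have : 2 ^ k ≤ 2 ^ 5 := Nat.pow_le_pow_right (by norm_num) (by omega)
      omega
    have hcR : 64 ≤ Nat.card ((R : Subgroup C).map C.subtype) := by
      rw [card_map_of_injective C.subtype_injective, hk]
      exact le_trans (by norm_num : 64 ≤ 2 ^ 6) (Nat.pow_le_pow_right Nat.two_pos hk6)
    obtain ⟨R', hR'⟩ := hRG.exists_le_sylow
    obtain ⟨c, hc⟩ := MulAction.exists_smul_eq G R' F.S
    have hReq : (R' : Subgroup G) = (R : Subgroup C).map C.subtype :=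
      (eq_of_le_of_card_ge hR' (by
        refine le_trans (le_of_eq ?_) hcR
        rw [R'.card_eq_multiplicity, ← F.S.card_eq_multiplicity, F.hS64])).symm
    have hcS : ∀ s ∈ (F.S : Subgroup G), s * (c * F.u₁ * c⁻¹) = c * F.u₁ * c⁻¹ * s := by
      intro s hs
      rw [← hc] at hs
      obtain ⟨r, hr, rfl⟩ := hs
      have hrC : r ∈ C := map_subtype_le _ (hReq ▸ hr : r ∈ (R : Subgroup C).map C.subtype)
      show c * r * c⁻¹ * (c * F.u₁ * c⁻¹) = c * F.u₁ * c⁻¹ * (c * r * c⁻¹)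
      rw [conj_mul, conj_mul, mem_centralizer_singleton_iff.1 hrC]
    have hu : F.u₁ ∈ C := mem_centralizer_singleton_iff.2 rfl
    have hu' : F.u₁ ∈ (R' : Subgroup G) := by
      rw [hReq]
      exact ⟨⟨_, hu⟩, hR (mem_subgroupOf.2 ⟨F.hAS F.u₁_mem, hu⟩), rfl⟩
    have hcA : c * F.u₁ * c⁻¹ ∈ A := closed F F.u₁_mem (by rw [← hc]; exact mem_map_of_mem _ hu')
    obtain ⟨s, hs⟩ := F.P_surj _ hcA
    have hsz : s ∈ zset := by
      refine V0_fix_all s fun g hg => ?_
      obtain ⟨n, hnS, rfl⟩ := exists_in_S F hg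
      exact (fix_iff F n s).1 (hs ▸ hcS _ hnS)
    rcases (mem_zset F).1 hsz with h | h
    · exact u₁_ne_one F (conj_eq_one_iff.1 (hs ▸ h))
    · exact not_conj_z_u₁ F (isConj_iff.2 ⟨c, hs.symm.trans h⟩).symm
  have hRT : T.subgroupOf C = (R : Subgroup C) := eq_of_le_of_card_ge hR (by rw [hR32, hcardT])
  have hrel : (A.subgroupOf C).relIndex (R : Subgroup C) = 2 := by
    rw [← hRT, relIndex_subgroupOf hTC]
    exact relIndex_T F
  have hRS : ∀ x ∈ (R : Subgroup C), (x : G) ∈ (F.S : Subgroup G) := by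
    intro x hx
    rw [← hRT] at hx
    exact hx.1
  obtain ⟨K, hKn, hK2, hK⟩ := exists_normal_of_fusion R hrel fun x hx g hg => by
    refine ⟨fun h => ?_, fun h => closed F h (hRS _ hg)⟩
    have h2 := closed F (a := ((g * x * g⁻¹ : C) : G)) h (g := (g : G)⁻¹) (by
      simp only [Subgroup.coe_mul, InvMemClass.coe_inv]
      convert hRS _ hx using 1
      group)
    simp only [Subgroup.coe_mul, InvMemClass.coe_inv] at h2
    show (x : G) ∈ A
    convert h2 using 1
    group
  have hAC : A ≤ C := fun a ha => (card_S_inf_centralizer F ha).2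
  refine ⟨K, hKn, hK2, fun a ha => ⟨⟨a, hAC ha⟩, ?_, rfl⟩, fun R₁ hR₁ hAR₁ hR₁K => ?_⟩
  · refine (hK _ ?_).2 ha
    rw [← hRT]
    exact card_S_inf_centralizer F ha
  · have hR₁C : R₁ ≤ C := hR₁K.trans (map_subtype_le _)
    obtain ⟨Q, hQ⟩ := (hR₁.comap_subtype (K := C)).exists_le_sylow
    obtain ⟨c, hc⟩ := MulAction.exists_smul_eq C Q R
    have hmem : ∀ x : R₁, (c : G) * x * (c : G)⁻¹ ∈ A := by
      rintro ⟨x, hx⟩
      have hxR : c * ⟨x, hR₁C hx⟩ * c⁻¹ ∈ (R : Subgroup C) := by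
        rw [← hc]
        exact mem_map_of_mem _ (hQ hx)
      obtain ⟨y, hy, hyx⟩ := hR₁K hx
      have hxK : (⟨x, hR₁C hx⟩ : C) ∈ K := by
        rwa [← show y = (⟨x, hR₁C hx⟩ : C) from Subtype.ext hyx]
      exact (hK _ hxR).1 (hKn.conj_mem _ hxK c)
    have hle : Nat.card R₁ ≤ Nat.card A :=
      Nat.card_le_card_of_injective (fun x : R₁ => (⟨_, hmem x⟩ : A)) fun x y h =>
        Subtype.ext (mul_left_cancel (mul_right_cancel (congrArg Subtype.val h)))
    exact (eq_of_le_of_card_ge hAR₁ hle).symm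

/-- In a subgroup with Sylow subgroup `A`, elements normalizing `A` have images of odd order. -/
theorem pow_fifteen {H : Subgroup G} (hmax : ∀ R : Subgroup G, IsPGroup 2 R → A ≤ R → R ≤ H → R = A)
    (hAH : A ≤ H) (n : normalizer (A : Set G)) (hn : (n : G) ∈ H) : F.φ n ^ 15 = 1 := by
  haveI : Fact (Nat.Prime 2) := ⟨Nat.prime_two⟩
  obtain ⟨a, m, hm, hd⟩ :=
    Nat.exists_eq_pow_mul_and_not_dvd (orderOf_pos n).ne' 2 (by norm_num)
  have h2 : ((n ^ m : normalizer (A : Set G)) : G) ^ 2 ^ a = 1 := by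
    rw [← SubmonoidClass.coe_pow, ← pow_mul, mul_comm, ← hd, pow_orderOf_eq_one, OneMemClass.coe_one]
  have hmA : ((n ^ m : normalizer (A : Set G)) : G) ∈ A := by
    have hp := (isPGroup_zpowers_of_pow h2).to_sup_of_normal_right'
      (SignalizerFamily.isPGroup_of_isElementaryAbelian F.hA) (zpowers_le.2 (n ^ m).2)
    have := hmax _ hp le_sup_right (sup_le (zpowers_le.2 (by
      rw [SubmonoidClass.coe_pow]; exact pow_mem hn m)) hAH)
    exact this.le (mem_sup_left (mem_zpowers _))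
  have h1 : F.φ n ^ m = 1 := by
    rw [← map_pow, F.cent]
    exact fun b hb => commA F hmA hb
  have h60 : F.φ n ^ 60 = 1 := by
    have := pow_card_eq_one' (x := (⟨F.φ n, Perm.mem_alternatingGroup.2 (F.sign_φ n)⟩ :
      alternatingGroup (Fin 5)))
    rw [nat_card_alt_five] at this
    exact congrArg Subtype.val this
  have hg := pow_gcd_eq_one' _ h1 h60
  obtain ⟨j, hj⟩ : Nat.gcd m 60 ∣ 15 := by
    refine (Nat.Coprime.dvd_of_dvd_mul_left ?_ (show Nat.gcd m 60 ∣ 4 * 15 from Nat.gcd_dvd_right _ _))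
    exact Nat.Coprime.coprime_dvd_left (Nat.gcd_dvd_left m 60)
      (((Nat.prime_two.coprime_iff_not_dvd.2 hm).symm).pow_right 2)
  rw [hj, pow_mul, hg, one_pow]

theorem isSolvable_z_inf_u₁ :
    Group.IsSolvable ↥(centralizer ({F.z} : Set G) ⊓ centralizer ({F.u₁} : Set G)) := by
  haveI : Fact (Nat.Prime 2) := ⟨Nat.prime_two⟩
  set C := centralizer ({F.u₁} : Set G) with hC
  obtain ⟨K, hKn, hK2, hAK, hmax⟩ := exists_K F
  set X := centralizer ({F.z} : Set G) ⊓ C with hX
  set H := X ⊓ K.map C.subtype with hH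
  have hAH : A ≤ H := le_inf (le_inf (fun a ha => mem_centralizer_singleton_iff.2
    (commA F ha F.z_mem)) (hAK.trans (map_subtype_le _))) hAK
  have hmaxH : ∀ R : Subgroup G, IsPGroup 2 R → A ≤ R → R ≤ H → R = A := fun R h1 h2 h3 =>
    hmax R h1 h2 (h3.trans inf_le_right)
  have hAp := SignalizerFamily.isPGroup_of_isElementaryAbelian F.hA
  obtain ⟨Q, hQ⟩ := (hAp.comap_subtype (K := H)).exists_le_sylow
  have hQA : (Q : Subgroup H) = A.subgroupOf H := by
    have h := hmaxH ((Q : Subgroup H).map H.subtype) (Q.2.map _)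
      (fun a ha => ⟨⟨a, hAH ha⟩, hQ ha, rfl⟩) (map_subtype_le _)
    rw [← h, subgroupOf, comap_map_eq_self_of_injective H.subtype_injective]
  have hHs : Group.IsSolvable H := by
    refine isSolvable_of_odd_centralizes Q ?_ ?_
    · refine ⟨⟨fun a b => Subtype.ext (Subtype.ext ?_)⟩⟩
      exact commA F (show ((a : H) : G) ∈ A from hQA.le a.2) (show ((b : H) : G) ∈ A from hQA.le b.2)
    · intro g hg _ x hx
      have hgN : (g : G) ∈ normalizer (A : Set G) := mem_normalizer_fintype fun a ha => by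
        have := (mem_normalizer_iff.1 hg ⟨a, hAH ha⟩).1 (hQ ha)
        exact hQA.le this
      have h15 := pow_fifteen F hmaxH hAH ⟨g, hgN⟩ g.2
      have h01 := (fix_iff F ⟨g, hgN⟩ {0, 1}).1 (mem_centralizer_singleton_iff.1 g.2.1.2)
      have h4 : F.φ ⟨g, hgN⟩ 4 = 4 := by
        have := (fix_iff F ⟨g, hgN⟩ {4}).1 (mem_centralizer_singleton_iff.1 g.2.1.1)
        simpa using this
      exact Subtype.ext ((F.cent _).1 (pair_stab4 _ (F.sign_φ _) h01 h4 h15) (x : G) (hQA.le hx))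
  let f : X →* C ⧸ K := (QuotientGroup.mk' K).comp (Subgroup.inclusion inf_le_right)
  haveI : Group.IsSolvable (C ⧸ K) := OddCond.isPGroup_isSolvable
    (IsPGroup.of_card (n := 1) (by rw [← index_eq_card, hK2, pow_one]))
  haveI := hHs
  refine Group.isSolvable_of_ker_le_range (Subgroup.inclusion (inf_le_left : H ≤ X)) f fun x hx => ?_
  rw [MonoidHom.mem_ker, MonoidHom.comp_apply, QuotientGroup.mk'_apply, QuotientGroup.eq_one_iff] at hx
  exact ⟨⟨(x : G), x.2, ⟨_, hx, rfl⟩⟩, Subtype.ext rfl⟩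

theorem isSolvable_u₁ (hz : Group.IsSolvable ↥(centralizer ({F.z} : Set G))) :
    Group.IsSolvable ↥(centralizer ({F.u₁} : Set G)) := by
  haveI : Fact (Nat.Prime 2) := ⟨Nat.prime_two⟩
  set C := centralizer ({F.u₁} : Set G) with hC
  obtain ⟨K, hKn, hK2, hAK, hmax⟩ := exists_K F
  set H := K.map C.subtype with hH
  haveI := hKn
  suffices hs : Group.IsSolvable H by
    haveI := hs
    exact isSolvable_of_index_two K hK2
      (Group.isSolvable_of_isSolvable_injective (f := (K.equivMapOfInjective C.subtype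
        C.subtype_injective).toMonoidHom) (MulEquiv.injective _))
  have hAp := SignalizerFamily.isPGroup_of_isElementaryAbelian F.hA
  obtain ⟨Q, hQ⟩ := (hAp.comap_subtype (K := H)).exists_le_sylow
  have hQA : (Q : Subgroup H) = A.subgroupOf H := by
    have h := hmax ((Q : Subgroup H).map H.subtype) (Q.2.map _)
      (fun a ha => ⟨⟨a, hAK ha⟩, hQ ha, rfl⟩) (map_subtype_le _)
    rw [← h, subgroupOf, comap_map_eq_self_of_injective H.subtype_injective]
  set e0 : G := F.P {0} with he0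
  have he0A : e0 ∈ A := F.P_mem _
  have he01 : e0 ≠ 1 := by
    rw [he0, Ne, P_eq_one]
    decide
  -- `e0` is the only conjugate of itself in `A`
  have hfix : ∀ k : H, (k : G) * e0 * (k : G)⁻¹ ∈ A → (k : G) * e0 * (k : G)⁻¹ = e0 := by
    intro k hk
    set eH : H := ⟨e0, hAK he0A⟩ with heH
    have hcomm : ∀ a : H, (a : G) ∈ A → (Q : Subgroup H) ≤ centralizer ({a} : Set H) :=
      fun a ha q hq => mem_centralizer_singleton_iff.2
        (Subtype.ext (commA F (show (q : G) ∈ A from hQA.le hq) ha))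
    obtain ⟨n, hn, hne⟩ := Transfer.exists_normalizer_conj_of_le_centralizer Q {eH} k
      (hcomm eH he0A) (by rw [Set.image_singleton]; exact hcomm _ hk)
    have hnN : (n : G) ∈ normalizer (A : Set G) := mem_normalizer_fintype fun a ha => by
      have := (mem_normalizer_iff.1 hn ⟨a, hAK ha⟩).1 (hQ ha)
      exact hQA.le this
    have h15 := pow_fifteen F hmax hAK ⟨n, hnN⟩ n.2
    have h01 := (fix_iff F ⟨n, hnN⟩ {0, 1}).1
      (mem_centralizer_singleton_iff.1 (map_subtype_le _ n.2))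
    have h0 := (fix_iff F ⟨n, hnN⟩ {0}).2
      (by rw [Finset.image_singleton, pair_stab _ (F.sign_φ _) h01 h15])
    have h1 : (n : G) * e0 * (n : G)⁻¹ = (k : G) * e0 * (k : G)⁻¹ :=
      congrArg Subtype.val (hne eH rfl)
    rw [← h1]
    exact mul_inv_eq_iff_eq_mul.2 h0
  have hiso : IsIsolatedInvolution (⟨e0, hAK he0A⟩ : H) := by
    refine ⟨by rw [Subgroup.orderOf_mk]; exact orderOf_A F he0A he01, fun g hg => ?_⟩
    set y : G := (g : G) * e0 * (g : G)⁻¹ with hy
    have hey : Commute e0 y := congrArg Subtype.val hg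
    have hy2 : y * y = 1 := by rw [hy, conj_mul, sq_eq_one F he0A, mul_one, mul_inv_cancel]
    obtain ⟨R, hR⟩ := ((isPGroup_pair (sq_eq_one F he0A) hy2 hey).comap_subtype
      (K := H)).exists_le_sylow
    obtain ⟨c, hc⟩ := MulAction.exists_smul_eq H R Q
    have hmem : ∀ x : H, (x : G) ∈ (zpowers e0 ⊔ zpowers y : Subgroup G) →
        (c : G) * x * (c : G)⁻¹ ∈ A := fun x hx => by
      have : c * x * c⁻¹ ∈ (Q : Subgroup H) := by
        rw [← hc]
        exact mem_map_of_mem _ (hR hx)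
      exact hQA.le this
    have h1 := hfix c (hmem ⟨e0, hAK he0A⟩ (mem_sup_left (mem_zpowers _)))
    have h2 := hmem (g * ⟨e0, hAK he0A⟩ * g⁻¹) (mem_sup_right (mem_zpowers _))
    have h3 : (c : G) * y * (c : G)⁻¹ = e0 := by
      have h4 := hfix (c * g) (by
        rw [Subgroup.coe_mul]
        convert h2 using 1
        simp only [Subgroup.coe_mul, InvMemClass.coe_inv]
        group)
      rw [← h4, hy, Subgroup.coe_mul]
      group
    exact Subtype.ext (mul_left_cancel (mul_right_cancel (h3.trans h1.symm)))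
  -- so `H = O(H) C(e0)`
  obtain ⟨n, hn⟩ : ∃ n : normalizer (A : Set G), (n : G) * e0 * (n : G)⁻¹ = F.z := by
    obtain ⟨n, h | h⟩ := exists_conj_std F he01
    · exact ⟨n, h.2⟩
    · exact absurd h.1 (by decide)
  haveI hCe : Group.IsSolvable ↥(centralizer ({e0} : Set G)) := by
    haveI := hz
    refine Group.isSolvable_of_isSolvable_injective
      (f := (((MulAut.conj (n : G)).toMonoidHom.comp (centralizer ({e0} : Set G)).subtype).codRestrict
        (centralizer ({F.z} : Set G)) fun x => mem_centralizer_singleton_iff.2 ?_)) ?_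
    · show (n : G) * x * (n : G)⁻¹ * F.z = F.z * ((n : G) * x * (n : G)⁻¹)
      rw [← hn, conj_mul, conj_mul, mem_centralizer_singleton_iff.1 x.2]
    · intro a b hab
      exact Subtype.ext ((MulAut.conj (n : G)).injective (congrArg Subtype.val hab))
  haveI : Group.IsSolvable (oddCore H) := oddSolvable _ (not_two_dvd_odd.1 PSolvable.pPrimeCore_not_dvd)
  set W := (centralizer ({e0} : Set G)).subgroupOf H with hW
  haveI : Group.IsSolvable W :=
    Group.isSolvable_of_isSolvable_injective (f := (H.subtype.comp W.subtype).codRestrict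
      (centralizer ({e0} : Set G)) fun x => x.2)
      fun a b hab => Subtype.ext (Subtype.ext
        (congrArg (fun t : centralizer ({e0} : Set G) => (t : G)) hab))
  haveI : Group.IsSolvable (H ⧸ oddCore H) := by
    refine Group.isSolvable_of_surjective (f := (QuotientGroup.mk' (oddCore H)).comp W.subtype) ?_
    intro q
    obtain ⟨g, rfl⟩ := QuotientGroup.mk_surjective q
    set E : H := ⟨e0, hAK he0A⟩ with hE
    have hEE : E * E = 1 := Subtype.ext (sq_eq_one F he0A)
    have hgg : g * E * g⁻¹ * (g * E * g⁻¹) = 1 := by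
      rw [conj_mul, hEE, mul_one, mul_inv_cancel]
    have hO : E * (g * E * g⁻¹) ∈ oddCore H := by
      have h := ZStar.zStar H E hiso g
      rw [inv_eq_of_mul_eq_one_right hEE] at h
      rwa [show E * (g * E * g⁻¹) = E * g * E * g⁻¹ by group]
    obtain ⟨k, hk⟩ := Isolated.dihedral_conj_of_odd hEE hgg
      ((not_two_dvd_odd.1 PSolvable.pPrimeCore_not_dvd).of_dvd_nat (orderOf_dvd_natCard _ hO))
    have hfixW : ((E * (g * E * g⁻¹)) ^ k)⁻¹ * g ∈ W := by
      rw [hW, mem_subgroupOf, mem_centralizer_singleton_iff]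
      have h1 : ((E * (g * E * g⁻¹)) ^ k)⁻¹ * g * E = E * (((E * (g * E * g⁻¹)) ^ k)⁻¹ * g) := by
        calc ((E * (g * E * g⁻¹)) ^ k)⁻¹ * g * E
            = ((E * (g * E * g⁻¹)) ^ k)⁻¹ * (g * E * g⁻¹) * g := by group
          _ = ((E * (g * E * g⁻¹)) ^ k)⁻¹ *
              ((E * (g * E * g⁻¹)) ^ k * E * ((E * (g * E * g⁻¹)) ^ k)⁻¹) * g := by rw [hk]
          _ = _ := by group
      exact congrArg Subtype.val h1
    refine ⟨⟨_, hfixW⟩, ?_⟩
    simp only [MonoidHom.coe_comp, Function.comp_apply, Subgroup.coe_subtype, QuotientGroup.mk'_apply]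
    rw [QuotientGroup.mk_mul, QuotientGroup.mk_inv,
      (QuotientGroup.eq_one_iff _).2 (pow_mem hO k), inv_one, one_mul]
  exact (Group.isSolvable_iff_subgroup_quotient (oddCore H)).2 ⟨inferInstance, inferInstance⟩

end Cfsg.Agent.Lib.A8Sylow91.Frame
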