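import Mathlib
import Cfsg.Agent.Lib.A8Sylow91.Local

/-!
The centralizer of the involution central in a Sylow 2-subgroup is solvable (row S3197).
-/

set_option autoImplicit false

namespace Cfsg.Agent.Lib.A8Sylow91.Frame

open Cfsg Subgroup Equiv

universe u

variable {G : Type u} [Group G] {A : Subgroup G} (F : Frame A)

/-- A condition invariant under the centralizer of `z`. -/
def Q (x : G) : Prop :=
  (IsConj x F.z ∧ x ≠ F.z) ∨ (IsConj (x * F.z) F.z ∧ x ≠ 1)

/-- The criterion for the subgroup of index two. -/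
def crit (x : G) : Prop := (x * x = 1 ∧ ¬ F.Q x) ∨ x * x = F.z

include F

theorem crit_conj {g x : G} (hg : Commute g F.z) (hx : F.crit x) : F.crit (g * x * g⁻¹) := by
  have hgz : g * F.z * g⁻¹ = F.z := by rw [hg.eq, mul_inv_cancel_right]
  have hcc : ∀ y : G, IsConj y F.z ↔ IsConj (g * y * g⁻¹) F.z := fun y =>
    ⟨fun h => (isConj_iff.2 ⟨g, rfl⟩).symm.trans h, fun h => (isConj_iff.2 ⟨g, rfl⟩).trans h⟩
  have hxz : g * x * g⁻¹ * F.z = g * (x * F.z) * g⁻¹ := by
    conv_lhs => rw [← hgz]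
    group
  rcases hx with ⟨h1, h2⟩ | h
  · refine Or.inl ⟨by rw [conj_mul, h1, mul_one, mul_inv_cancel], fun hQ => h2 ?_⟩
    rcases hQ with ⟨h3, h4⟩ | ⟨h3, h4⟩
    · exact Or.inl ⟨(hcc x).2 h3, fun h5 => h4 (by rw [h5, hgz])⟩
    · exact Or.inr ⟨(hcc _).2 (hxz ▸ h3), fun h5 => h4 (by rw [h5, mul_one, mul_inv_cancel])⟩
  · exact Or.inr (by rw [conj_mul, h, hgz])

theorem crit_conj_iff {g x : G} (hg : Commute g F.z) :
    F.crit (g * x * g⁻¹) ↔ F.crit x := by
  refine ⟨fun h => ?_, crit_conj F hg⟩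
  have := crit_conj F (g := g⁻¹) hg.inv_left h
  convert this using 1
  group

theorem sq_mem_zset {x : G} (hx : x * x = 1 ∨ x * x = F.z) :
    ∃ s ∈ zset, F.P s = x * x := by
  rcases hx with h | h
  · exact ⟨∅, by decide, by rw [P_empty, h]⟩
  · exact ⟨{4}, by decide, h.symm⟩

variable [Finite G]

theorem crit_P (s : Finset (Fin 5)) : F.crit (F.P s) ↔ evs s := by
  have hsq := sq_eq_one F (F.P_mem s)
  have h4 : F.P s * F.z = F.P (symmDiff s {4}) := F.P_mul _ _
  constructor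
  · rintro (⟨-, hQ⟩ | h)
    · by_contra hev
      rcases not_evs s hev with ⟨hc, h1, h2⟩ | ⟨hc, h1⟩
      · refine hQ (Or.inl ⟨?_, ?_⟩)
        · refine (isConj_z_card F ?_ (not_conj_z_u₁ F)).2 hc
          rw [Ne, P_eq_one]
          rintro (rfl | rfl) <;> simp at hc
        · rw [z, Ne, F.P_eq]
          exact fun h => h.elim h1 h2
      · refine hQ (Or.inr ⟨?_, ?_⟩)
        · rw [h4]
          refine (isConj_z_card F ?_ (not_conj_z_u₁ F)).2 hc
          rw [Ne, P_eq_one]
          intro h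
          rcases h with h | h <;> rw [h] at hc <;> simp at hc
        · rw [Ne, P_eq_one]
          simpa using h1
    · exact absurd (hsq.symm.trans h) (z_ne_one F).symm
  · intro hev
    refine Or.inl ⟨hsq, fun hQ => ?_⟩
    obtain ⟨e1, e2⟩ := evs_spec s hev
    rcases hQ with ⟨hc, hne⟩ | ⟨hc, hne⟩
    · have hs1 : F.P s ≠ 1 := fun h => by
        rw [h] at hc
        exact z_ne_one F (isConj_one_right.1 hc)
      refine hne ?_
      rw [z, F.P_eq]
      exact e1 ((isConj_z_card F hs1 (not_conj_z_u₁ F)).1 hc)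
    · rw [h4] at hc
      have hs1 : F.P (symmDiff s {4}) ≠ 1 := fun h => by
        rw [h] at hc
        exact z_ne_one F (isConj_one_right.1 hc)
      refine hne ?_
      rw [P_eq_one]
      exact e2 ((isConj_z_card F hs1 (not_conj_z_u₁ F)).1 hc)

theorem crit_outer {x : G} (hx : x ∈ (F.S : Subgroup G)) (hA : x ∉ A) :
    F.crit x ↔ ∃ s ∈ zset, F.P s = x * x := by
  refine ⟨fun h => sq_mem_zset F (h.imp And.left id), ?_⟩
  rintro ⟨s, hs, h⟩
  rcases (mem_zset F).1 hs with h1 | h1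
  · have hxx : x * x = 1 := h ▸ h1
    refine Or.inl ⟨hxx, ?_⟩
    rintro (⟨hc, -⟩ | ⟨hc, -⟩)
    · exact not_conj_outer F (t := ⟨x, F.hSN hx⟩) (fun h2 => hA ((F.memA _ hx).1 h2)) hxx F.z_mem
        (z_ne_one F) hc.symm
    · have hxz : x * F.z ∈ (F.S : Subgroup G) := mul_mem hx (F.hAS F.z_mem)
      refine not_conj_outer F (t := ⟨_, F.hSN hxz⟩) (fun h2 => hA ?_) ?_ F.z_mem (z_ne_one F) hc.symm
      · exact (mul_mem_cancel_right F.z_mem).1 ((F.memA _ hxz).1 h2)
      · show x * F.z * (x * F.z) = 1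
        calc x * F.z * (x * F.z) = x * (F.z * x) * F.z := by group
          _ = (x * x) * (F.z * F.z) := by rw [← (z_central F hx).eq]; group
          _ = 1 := by rw [hxx, sq_eq_one F F.z_mem, one_mul]
  · exact Or.inr (h ▸ h1)

omit [Finite G] in
theorem zset_mul {a b : G} (ha : ∃ s ∈ zset, F.P s = a) (hb : ∃ s ∈ zset, F.P s = b) :
    ∃ s ∈ zset, F.P s = a * b := by
  obtain ⟨s, hs, rfl⟩ := ha
  obtain ⟨t, ht, rfl⟩ := hb
  refine ⟨symmDiff s t, ?_, (F.P_mul s t).symm⟩
  have key : ∀ s ∈ zset, ∀ t ∈ zset, symmDiff s t ∈ zset := by decide +kernel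
  exact key s hs t ht

omit [Finite G] in
theorem zset_central {a : G} (ha : ∃ s ∈ zset, F.P s = a) {x : G}
    (hx : x ∈ (F.S : Subgroup G)) : Commute x a := by
  obtain ⟨s, hs, rfl⟩ := ha
  rcases (mem_zset F).1 hs with h | h <;> rw [h]
  · exact Commute.one_right x
  · exact z_central F hx

theorem mul_inner {s : Finset (Fin 5)} (hs : evs s) {y : G} (hy : y ∈ (F.S : Subgroup G))
    (hyA : y ∉ A) (hyc : F.crit y) : F.crit (F.P s * y) ∧ F.crit (y * F.P s) := by
  have hys := (crit_outer F hy hyA).1 hyc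
  have hsS := F.hAS (F.P_mem s)
  set n : normalizer (A : Set G) := ⟨y, F.hSN hy⟩ with hn
  have hn1 : F.φ n ≠ 1 := fun h => hyA ((F.memA n hy).1 h)
  have hcom : ∃ t ∈ zset, F.P t = F.P s * (y * F.P s * y⁻¹) := by
    refine ⟨_, (commutator_zset _ (φ_mem_V0 F hy) hn1 s).1 hs, ?_⟩
    rw [← F.P_mul, ← F.P_conj]
    exact commA F (conj_mem_A n (F.P_mem s)) (F.P_mem s)
  have hy1 : F.P s * y * (F.P s * y) = F.P s * (y * F.P s * y⁻¹) * (y * y) := by group
  have hsq := zset_mul F hcom hys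
  rw [← hy1] at hsq
  have hout : ∀ w, w = F.P s * y ∨ w = y * F.P s → w ∈ (F.S : Subgroup G) ∧ w ∉ A := by
    rintro w (rfl | rfl)
    · exact ⟨mul_mem hsS hy, fun h => hyA ((mul_mem_cancel_left (F.P_mem s)).1 h)⟩
    · exact ⟨mul_mem hy hsS, fun h => hyA ((mul_mem_cancel_right (F.P_mem s)).1 h)⟩
  refine ⟨(crit_outer F (hout _ (Or.inl rfl)).1 (hout _ (Or.inl rfl)).2).2 hsq,
    (crit_outer F (hout _ (Or.inr rfl)).1 (hout _ (Or.inr rfl)).2).2 ?_⟩
  have hc := zset_central F hsq hy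
  rw [show y * F.P s * (y * F.P s) = y * (F.P s * y * (F.P s * y)) * y⁻¹ by group, hc.eq,
    mul_inv_cancel_right]
  exact hsq

theorem crit_mul {x y : G} (hx : x ∈ (F.S : Subgroup G)) (hy : y ∈ (F.S : Subgroup G))
    (hxc : F.crit x) (hyc : F.crit y) : F.crit (x * y) := by
  by_cases hxA : x ∈ A
  · obtain ⟨s, rfl⟩ := F.P_surj x hxA
    rw [crit_P] at hxc
    by_cases hyA : y ∈ A
    · obtain ⟨t, rfl⟩ := F.P_surj y hyA
      rw [crit_P] at hyc
      rw [F.P_mul, crit_P]
      exact evs_symmDiff s t hxc hyc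
    · exact (mul_inner F hxc hy hyA hyc).1
  by_cases hyA : y ∈ A
  · obtain ⟨t, rfl⟩ := F.P_surj y hyA
    rw [crit_P] at hyc
    exact (mul_inner F hyc hx hxA hxc).2
  have hxs := (crit_outer F hx hxA).1 hxc
  have hys := (crit_outer F hy hyA).1 hyc
  set n : normalizer (A : Set G) := ⟨x, F.hSN hx⟩ with hn
  set m : normalizer (A : Set G) := ⟨y, F.hSN hy⟩ with hm
  have hn1 : F.φ n ≠ 1 := fun h => hxA ((F.memA n hx).1 h)
  have hm1 : F.φ m ≠ 1 := fun h => hyA ((F.memA m hy).1 h)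
  have hn2 := (V0_spec _ (φ_mem_V0 F hx : F.φ n ∈ V0)).2.2
  by_cases hnm : F.φ n = F.φ m
  · -- same coset of `A`
    have hA : x⁻¹ * y ∈ A := (F.memA (n⁻¹ * m) (mul_mem (inv_mem hx) hy)).1
      (by rw [map_mul, map_inv, hnm, inv_mul_cancel])
    obtain ⟨r, hr⟩ := F.P_surj _ hA
    have hy' : y = x * F.P r := by rw [hr, mul_inv_cancel_left]
    have h1 : y * y = x * x * (x⁻¹ * F.P r * x * F.P r) := by rw [hy']; group
    have hev : evs r := by
      refine (commutator_zset _ (φ_mem_V0 F hx : F.φ n ∈ V0) hn1 r).2 ?_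
      obtain ⟨s, hs, hs'⟩ := hxs
      obtain ⟨t, ht, ht'⟩ := hys
      rw [mem_zset F, ← F.P_mul, ← F.P_conj]
      have h2 : x⁻¹ * F.P r * x = x * F.P r * x⁻¹ := by
        have hc : Commute (x * x) (F.P r) := hs' ▸ commA F (F.P_mem s) (F.P_mem r)
        calc x⁻¹ * F.P r * x = x⁻¹ * (F.P r * (x * x)) * x⁻¹ := by group
          _ = x⁻¹ * (x * x * F.P r) * x⁻¹ := by rw [hc.eq]
          _ = _ := by group
      have h3 : x * F.P r * x⁻¹ * F.P r = (x * x)⁻¹ * (y * y) := by
        rw [h1, inv_mul_cancel_left, h2]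
      show x * F.P r * x⁻¹ * F.P r = 1 ∨ x * F.P r * x⁻¹ * F.P r = F.z
      rw [h3]
      obtain ⟨w, hw, hw'⟩ := zset_mul F ⟨s, hs, hs'⟩ ⟨t, ht, ht'⟩
      rw [inv_eq_of_mul_eq_one_right (show x * x * (x * x) = 1 by
        rw [← hs']; exact sq_eq_one F (F.P_mem s)), ← hw']
      exact (mem_zset F).1 hw
    obtain ⟨s, hs, hs'⟩ := hxs
    rw [hy', ← mul_assoc, ← hs', F.P_mul, crit_P]
    exact evs_symmDiff s r (evs_zset s hs) hev
  · -- different cosets
    have hxy : x * y ∈ (F.S : Subgroup G) := mul_mem hx hy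
    set c := x * y * (x * y) with hc
    have hcA : c ∈ A := (F.memA (n * m * (n * m)) (mul_mem hxy hxy)).1 (by
      rw [map_mul]
      exact (V0_spec _ (φ_mem_V0 F (n := n * m) hxy)).2.2)
    have hxyA : x * y ∉ A := fun h => hnm (by
      have h1 := (F.memA (n * m) hxy).2 h
      rw [map_mul] at h1
      rw [eq_inv_of_mul_eq_one_right h1, inv_eq_of_mul_eq_one_right hn2])
    refine (crit_outer F hxy hxyA).2 ?_
    -- `x` fixes `c`
    have hz1 := zset_central F hxs hy
    have hz2 := zset_central F hys hx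
    have hxc' : x * c * x⁻¹ = c := by
      have hcc : c * c = 1 := sq_eq_one F hcA
      have hx4 : (x * x) * (x * x) = 1 := by
        obtain ⟨s, -, hs'⟩ := hxs
        rw [← hs']; exact sq_eq_one F (F.P_mem s)
      have hy4 : (y * y) * (y * y) = 1 := by
        obtain ⟨s, -, hs'⟩ := hys
        rw [← hs']; exact sq_eq_one F (F.P_mem s)
      have e1 : x * (x * y) * x⁻¹ = y * x := by
        calc x * (x * y) * x⁻¹ = (x * x * y) * x⁻¹ := by group
          _ = (y * (x * x)) * x⁻¹ := by rw [hz1.eq]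
          _ = y * x := by group
      have e2 : y * x * (y * x) * c = 1 := by
        have hxx := zset_central F hxs (mul_mem hy hx)
        have hyy := zset_central F hys (mul_mem hx hy)
        calc y * x * (y * x) * c = y * x * y * ((x * x) * (y * x * y)) := by rw [hc]; group
          _ = y * x * y * ((y * x * y) * (x * x)) := by
              rw [show (x * x) * (y * x * y) = y * x * y * (x * x) from
                ((zset_central F hxs (mul_mem (mul_mem hy hx) hy)).eq).symm]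
          _ = y * x * (y * y) * x * y * (x * x) := by group
          _ = y * (y * y) * (x * x) * y * (x * x) := by
              rw [show y * x * (y * y) * x = y * (x * (y * y)) * x by group, hz2.eq]; group
          _ = y * (y * y) * ((x * x) * y) * (x * x) := by group
          _ = y * (y * y) * (y * (x * x)) * (x * x) := by rw [hz1.eq]
          _ = (y * y) * (y * y) * ((x * x) * (x * x)) := by group
          _ = 1 := by rw [hy4, hx4, one_mul]
      calc x * c * x⁻¹ = (x * (x * y) * x⁻¹) * (x * (x * y) * x⁻¹) := by rw [hc]; group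
        _ = y * x * (y * x) := by rw [e1]
        _ = c⁻¹ := eq_inv_of_mul_eq_one_left e2
        _ = c := inv_eq_of_mul_eq_one_right hcc
    obtain ⟨s, hs⟩ := F.P_surj c hcA
    have h1 : s.image (F.φ n) = s := (fix_iff F n s).1 (by
      rw [hs]; exact mul_inv_eq_iff_eq_mul.1 hxc')
    have h2 : s.image (F.φ (n * m)) = s := (fix_iff F (n * m) s).1 (by
      rw [hs]; show x * y * c = c * (x * y); rw [hc]; group)
    refine ⟨s, V0_two_fix _ (φ_mem_V0 F hx : F.φ n ∈ V0) _ (φ_mem_V0 F hxy : F.φ (n * m) ∈ V0) hn1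
      ?_ ?_ s h1 h2, hs⟩
    · intro h; exact hxyA ((F.memA (n * m) hxy).1 h)
    · rw [map_mul]
      intro h
      exact hm1 (mul_eq_left.1 h.symm)

/-- The subgroup of index two in the Sylow subgroup. -/
def S0 : Subgroup G where
  carrier := {x | x ∈ (F.S : Subgroup G) ∧ F.crit x}
  one_mem' := ⟨one_mem _, by
    rw [← P_empty F, crit_P]
    decide⟩
  mul_mem' := fun {x y} hx hy => ⟨mul_mem hx.1 hy.1, crit_mul F hx.1 hy.1 hx.2 hy.2⟩
  inv_mem' := fun {x} hx => by
    refine ⟨inv_mem hx.1, ?_⟩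
    rcases hx.2 with ⟨h1, h2⟩ | h
    · rw [inv_eq_of_mul_eq_one_right h1]
      exact Or.inl ⟨h1, h2⟩
    · refine Or.inr ?_
      rw [← mul_inv_rev, h]
      exact inv_eq_of_mul_eq_one_right (sq_eq_one F F.z_mem)

theorem mem_S0 {x : G} : x ∈ F.S0 ↔ x ∈ (F.S : Subgroup G) ∧ F.crit x := Iff.rfl

theorem relIndex_S0 : F.S0.relIndex (F.S : Subgroup G) = 2 := by
  rw [relIndex, index_eq_two_iff]
  refine ⟨⟨F.P {0}, F.hAS (F.P_mem _)⟩, fun b => ?_⟩
  simp only [mem_subgroupOf, Subgroup.coe_mul, mem_S0, b.2, mul_mem b.2 (F.hAS (F.P_mem _)), true_and]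
  by_cases hb : (b : G) ∈ A
  · obtain ⟨s, hs⟩ := F.P_surj _ hb
    rw [← hs, F.P_mul, crit_P, crit_P, evs_e0]
    by_cases h : evs s
    · exact Or.inr ⟨h, not_not.2 h⟩
    · exact Or.inl ⟨h, h⟩
  · set n : normalizer (A : Set G) := ⟨(b : G), F.hSN b.2⟩ with hn
    have hn1 : F.φ n ≠ 1 := fun h => hb ((F.memA n b.2).1 h)
    have hcA : (b : G) * b ∈ A := (F.memA (n * n) (mul_mem b.2 b.2)).1 (by
      rw [map_mul]; exact (V0_spec _ (φ_mem_V0 F (n := n) b.2)).2.2)
    obtain ⟨s, hs⟩ := F.P_surj _ hcA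
    have hfix : s.image (F.φ n) = s := (fix_iff F n s).1 (by
      rw [hs]; exact (mul_assoc _ _ _).symm)
    have hbP : (b : G) * F.P {0} ∉ A := fun h => hb ((mul_mem_cancel_right (F.P_mem _)).1 h)
    rw [crit_outer F (mul_mem b.2 (F.hAS (F.P_mem _))) hbP, crit_outer F b.2 hb]
    have hsq : (b : G) * F.P {0} * ((b : G) * F.P {0}) =
        F.P (symmDiff s (symmDiff (({0} : Finset (Fin 5)).image (F.φ n)) {0})) := by
      rw [← F.P_mul, ← F.P_mul, ← F.P_conj, hs]
      show _ = (b : G) * b * ((b : G) * F.P {0} * (b : G)⁻¹ * F.P {0})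
      have hc : Commute ((b : G) * b) (F.P {0}) := commA F hcA (F.P_mem _)
      calc (b : G) * F.P {0} * ((b : G) * F.P {0})
          = (b : G) * F.P {0} * (b : G)⁻¹ * ((b : G) * b * F.P {0}) := by group
        _ = ((b : G) * F.P {0} * (b : G)⁻¹) * (F.P {0} * ((b : G) * b)) := by rw [hc.eq]
        _ = ((b : G) * F.P {0} * (b : G)⁻¹ * F.P {0}) * ((b : G) * b) := by group
        _ = _ := commA F (mul_mem (conj_mem_A n (F.P_mem _)) (F.P_mem _)) hcA
    have key : ∀ r : Finset (Fin 5), (∃ t ∈ zset, F.P t = F.P r) ↔ r ∈ zset := by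
      refine fun r => ⟨?_, fun h => ⟨r, h, rfl⟩⟩
      rintro ⟨t, ht, htr⟩
      have := (mem_zset F).1 ht
      rw [htr] at this
      exact (mem_zset F).2 this
    rw [hsq, ← hs, key, key, square_shift _ (φ_mem_V0 F (n := n) b.2) hn1 s hfix]
    by_cases h : s ∈ zset
    · exact Or.inr ⟨h, not_not.2 h⟩
    · exact Or.inl ⟨h, h⟩

theorem card_S0 : Nat.card F.S0 = 32 := by
  have h := PSolvable.card_mul_relIndex (show F.S0 ≤ (F.S : Subgroup G) from fun x hx => hx.1)
  rw [relIndex_S0, F.hS64] at h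
  omega

theorem exists_outer_S0 : ∃ x ∈ F.S0, x ∉ A := by
  obtain ⟨n, hnS, hn⟩ := exists_in_S F (g := σ0) (by decide +kernel)
  have hnA : (n : G) ∉ A := fun h => by
    have := (F.memA n hnS).2 h
    rw [hn] at this
    exact absurd this (by decide +kernel)
  by_cases h : (n : G) ∈ F.S0
  · exact ⟨_, h, hnA⟩
  · refine ⟨(n : G) * F.P {0}, ?_, fun h' => hnA ((mul_mem_cancel_right (F.P_mem _)).1 h')⟩
    have he : (⟨F.P {0}, F.hAS (F.P_mem _)⟩ : (F.S : Subgroup G)) ∉ F.S0.subgroupOf (F.S : Subgroup G) := by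
      rw [mem_subgroupOf, mem_S0, crit_P]
      exact fun h => absurd h.2 (by decide)
    exact mem_subgroupOf.1 ((mul_mem_iff_of_index_two (relIndex_S0 F)).2
      (iff_of_false (fun h' => h (mem_subgroupOf.1 h')) he) :
        (⟨(n : G), hnS⟩ * ⟨F.P {0}, F.hAS (F.P_mem _)⟩ : (F.S : Subgroup G)) ∈ _)

/-- An element of odd order fixing `z`, normalizing `S0` and fixing an outer element of it
centralizes it. -/
theorem odd_fix {k x : G} (hkz : Commute k F.z) (hko : Odd (orderOf k))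
    (hkn : ∀ y ∈ F.S0, k * y * k⁻¹ ∈ F.S0) (hx : x ∈ F.S0) (hxA : x ∉ A) (hkx : Commute k x) :
    ∀ y ∈ F.S0, Commute k y := by
  set n : normalizer (A : Set G) := ⟨x, F.hSN hx.1⟩ with hn
  have hn1 : F.φ n ≠ 1 := fun h => hxA ((F.memA n hx.1).1 h)
  set σ := F.φ n with hσ
  have hσV : σ ∈ V0 := φ_mem_V0 F hx.1
  have hEk : ∀ s, evs s → ∃ t, evs t ∧ F.P t = k * F.P s * k⁻¹ := by
    intro s hs
    have h1 := hkn _ (⟨F.hAS (F.P_mem s), (crit_P F s).2 hs⟩ : F.P s ∈ F.S0)
    obtain ⟨t, ht⟩ := F.P_surj _ (closed F (F.P_mem s) h1.1)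
    exact ⟨t, (crit_P F t).1 (ht ▸ h1.2), ht⟩
  have hfixE : ∀ s t, evs s → F.P t = k * F.P s * k⁻¹ → (t.image σ = t ↔ s.image σ = s) := by
    intro s t _ ht
    rw [hσ, ← fix_iff, ← fix_iff, ht]
    show x * (k * F.P s * k⁻¹) = k * F.P s * k⁻¹ * x ↔ x * F.P s = F.P s * x
    have hki : k⁻¹ * x = x * k⁻¹ := hkx.inv_left.eq
    rw [show x * (k * F.P s * k⁻¹) = k * (x * F.P s) * k⁻¹ by
      rw [← mul_assoc, ← mul_assoc, ← hkx.eq]; group]
    rw [show k * F.P s * k⁻¹ * x = k * (F.P s * x) * k⁻¹ by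
      rw [mul_assoc (k * F.P s), hki]; group]
    exact ⟨fun h => mul_left_cancel (mul_right_cancel h), fun h => by rw [h]⟩
  have hfixz : ∀ s ∈ zset, Commute k (F.P s) := by
    intro s hs
    rcases (mem_zset F).1 hs with h | h <;> rw [h]
    · exact Commute.one_right k
    · exact hkz
  set y : Finset (Fin 5) := {0, σ 0} with hy
  obtain ⟨hye, hyz, hyf⟩ := pair_evs σ hσV hn1
  have hky : Commute k (F.P y) := by
    obtain ⟨t, hte, ht⟩ := hEk y hye
    rcases fix_pair_unique σ hσV hn1 t ((hfixE y t hye ht).2 hyf) with h | h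
    · exfalso
      have h1 := hfixz t h
      rw [ht] at h1
      have h2 : F.P y = k * F.P y * k⁻¹ := by
        have := h1.eq
        calc F.P y = k⁻¹ * (k * F.P y * k⁻¹ * k) := by group
          _ = k⁻¹ * (k * (k * F.P y * k⁻¹)) := by rw [← this]
          _ = _ := by group
      exact hyz ((mem_zset F).2 (h2 ▸ ht ▸ (mem_zset F).1 h))
    · have h1 : F.P (symmDiff t y) = F.P y * (k * F.P y * k⁻¹) := by
        rw [← F.P_mul, ht]
        exact commA F (ht ▸ F.P_mem t) (F.P_mem y)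
      set r := F.P (symmDiff t y) with hr
      have hr2 : r ^ 2 = 1 := F.hA.2 _ (F.P_mem _)
      have heq : k * F.P y * k⁻¹ = F.P y * r := by
        rw [h1, ← mul_assoc, sq_eq_one F (F.P_mem y), one_mul]
      have h2 := fix_of_odd hko hr2 (hfixz _ h) heq
      rw [h2, mul_one] at heq
      exact mul_inv_eq_iff_eq_mul.1 heq
  have hkE : ∀ s, evs s → Commute k (F.P s) := by
    intro s hs
    have hfix' : ∀ r, r.image σ = r → Commute k (F.P r) := by
      intro r hr
      rcases fix_pair_unique σ hσV hn1 r hr with h | h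
      · exact hfixz r h
      · have h1 : F.P r = F.P (symmDiff r y) * F.P y := by
          rw [← F.P_mul, mul_assoc, sq_eq_one F (F.P_mem y), mul_one]
        rw [h1]
        exact (hfixz _ h).mul_right hky
    by_cases hsf : s.image σ = s
    · exact hfix' s hsf
    obtain ⟨t, hte, ht⟩ := hEk s hs
    have hd := moved_diff σ hσV hn1 s t hs hte hsf (fun h => hsf ((hfixE s t hs ht).1 h))
    have heq : k * F.P s * k⁻¹ = F.P s * F.P (symmDiff s t) := by
      rw [← F.P_mul, ← mul_assoc, sq_eq_one F (F.P_mem s), one_mul, ht]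
    have h2 := fix_of_odd hko (F.hA.2 _ (F.P_mem _)) (hfix' _ hd) heq
    rw [h2, mul_one] at heq
    exact mul_inv_eq_iff_eq_mul.1 heq
  intro w hw
  set c := w⁻¹ * (k * w * k⁻¹) with hc
  have hcS : c ∈ F.S0 := mul_mem (inv_mem hw) (hkn w hw)
  have hcE : ∀ s, evs s → c * F.P s * c⁻¹ = F.P s := by
    intro s hs
    have h1 : k⁻¹ * F.P s * k = F.P s := by
      rw [mul_assoc, ← (hkE s hs).eq, inv_mul_cancel_left]
    have hwS : w * F.P s * w⁻¹ ∈ F.S0 :=
      mul_mem (mul_mem hw ⟨F.hAS (F.P_mem s), (crit_P F s).2 hs⟩) (inv_mem hw)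
    obtain ⟨t, ht⟩ := F.P_surj _ (closed F (F.P_mem s) hwS.1)
    have h2 := hkE t ((crit_P F t).1 (ht ▸ hwS.2))
    calc c * F.P s * c⁻¹ = w⁻¹ * (k * (w * (k⁻¹ * F.P s * k) * w⁻¹) * k⁻¹) * w := by
          rw [hc]; group
      _ = w⁻¹ * (k * F.P t * k⁻¹) * w := by rw [h1, ← ht]
      _ = F.P s := by rw [h2.eq, mul_inv_cancel_right, ht]; group
  have hcA : c ∈ A := by
    by_contra hcA
    set m : normalizer (A : Set G) := ⟨c, F.hSN hcS.1⟩ with hm
    have hm1 : F.φ m ≠ 1 := fun h => hcA ((F.memA m hcS.1).1 h)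
    obtain ⟨s, hse, hsm⟩ := V0_move_pair _ (φ_mem_V0 F (n := m) hcS.1) hm1
    exact hsm ((fix_iff F m s).1 (mul_inv_eq_iff_eq_mul.1 (hcE s hse)))
  obtain ⟨s, hs⟩ := F.P_surj c hcA
  have hkc : Commute k c := hs ▸ hkE s ((crit_P F s).1 (hs ▸ hcS.2))
  have heq : k * w * k⁻¹ = w * c := by rw [hc]; group
  have h2 := fix_of_odd hko (F.hA.2 c hcA) hkc heq
  rw [h2, mul_one] at heq
  exact mul_inv_eq_iff_eq_mul.1 heq

theorem isSolvable_z_inf {x : G} (hx : x ∈ A) (hxS : F.crit x) (hx1 : x ≠ 1) (hxz : x ≠ F.z) :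
    Group.IsSolvable ↥(centralizer ({F.z} : Set G) ⊓ centralizer ({x} : Set G)) := by
  obtain ⟨s, rfl⟩ := F.P_surj x hx
  rw [crit_P] at hxS
  have hsz : s ∉ zset := fun h => ((mem_zset F).1 h).elim hx1 hxz
  obtain ⟨g, hg, hg4, hcase⟩ := evs_zset_pair s hxS hsz
  obtain ⟨n, hn⟩ := F.surj_φ g hg
  have hnz : Commute (n : G) F.z := (fix_iff F n {4}).2 (by rw [hn, Finset.image_singleton, hg4])
  have hnx : (n : G) * F.P s * (n : G)⁻¹ = F.u₁ ∨
      (n : G) * F.P s * (n : G)⁻¹ = F.u₁ * F.z := by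
    rcases hcase with h | h | h | h
    · exact Or.inl (by rw [F.P_conj, hn, h]; rfl)
    · exact Or.inl (by rw [F.P_conj, hn, h, P_compl]; rfl)
    all_goals
      refine Or.inr ?_
      have h1 : (n : G) * F.P (symmDiff s {4}) * (n : G)⁻¹ = F.u₁ := by
        rw [F.P_conj, hn, h]
        first
          | rfl
          | (rw [P_compl]; rfl)
      rw [← F.P_mul, ← conj_mul, show F.P {4} = F.z from rfl,
        show (n : G) * F.z * (n : G)⁻¹ = F.z by rw [hnz.eq, mul_inv_cancel_right]] at h1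
      rw [← h1, mul_assoc _ F.z F.z, sq_eq_one F F.z_mem, mul_one]
  haveI := isSolvable_z_inf_u₁ F
  let f : ↥(centralizer ({F.z} : Set G) ⊓ centralizer ({F.P s} : Set G)) →*
      ↥(centralizer ({F.z} : Set G) ⊓ centralizer ({F.u₁} : Set G)) :=
    ((MulAut.conj (n : G)).toMonoidHom.comp (Subgroup.subtype _)).codRestrict _ fun y => by
      have hy1 : Commute (y : G) F.z := mem_centralizer_singleton_iff.1 y.2.1
      have hy2 : Commute (y : G) (F.P s) := mem_centralizer_singleton_iff.1 y.2.2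
      have hnz' : (n : G) * F.z * (n : G)⁻¹ = F.z := by rw [hnz.eq, mul_inv_cancel_right]
      have h1 : Commute ((n : G) * y * (n : G)⁻¹) F.z := by
        have := (Commute.conj_iff (n : G)).2 hy1
        rwa [hnz'] at this
      have h2 : Commute ((n : G) * y * (n : G)⁻¹) ((n : G) * F.P s * (n : G)⁻¹) :=
        (Commute.conj_iff _).2 hy2
      refine ⟨mem_centralizer_singleton_iff.2 h1, mem_centralizer_singleton_iff.2 ?_⟩
      rcases hnx with h | h <;> rw [h] at h2
      · exact h2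
      · have h3 := h2.mul_right h1
        rw [mul_assoc F.u₁, sq_eq_one F F.z_mem, mul_one] at h3
        exact h3
  exact Group.isSolvable_of_isSolvable_injective (f := f) fun a b hab =>
    Subtype.ext ((MulAut.conj (n : G)).injective (congrArg Subtype.val hab))

set_option maxHeartbeats 1000000 in
/-- The centralizer of `z` is solvable. -/
theorem isSolvable_z : Group.IsSolvable ↥(centralizer ({F.z} : Set G)) := by
  haveI : Fact (Nat.Prime 2) := ⟨Nat.prime_two⟩
  set K := centralizer ({F.z} : Set G) with hK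
  have hSK : (F.S : Subgroup G) ≤ K := fun x hx =>
    mem_centralizer_singleton_iff.2 (z_central F hx)
  have hS0K : F.S0 ≤ K := fun x hx => hSK hx.1
  let T : Sylow 2 K := (F.S.2.comap_subtype (K := K)).toSylow fun hd =>
    F.S.not_dvd_index (hd.trans (relIndex_dvd_index_of_le hSK))
  have hrel : (F.S0.subgroupOf K).relIndex (T : Subgroup K) = 2 := by
    show (F.S0.subgroupOf K).relIndex ((F.S : Subgroup G).subgroupOf K) = 2
    rw [relIndex_subgroupOf hSK]
    exact relIndex_S0 F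
  obtain ⟨K0, hK0n, hK02, hK0⟩ := exists_normal_of_fusion T hrel fun x hx g hg => by
    simp only [mem_subgroupOf, mem_S0, Subgroup.coe_mul, InvMemClass.coe_inv]
    have hgS : (g : G) * x * (g : G)⁻¹ ∈ (F.S : Subgroup G) := hg
    rw [crit_conj_iff F (mem_centralizer_singleton_iff.1 g.2)]
    exact ⟨fun h => ⟨hx, h.2⟩, fun h => ⟨hgS, h.2⟩⟩
  haveI := hK0n
  suffices hs : Group.IsSolvable K0 from isSolvable_of_index_two K0 hK02 hs
  -- the kernel `⟨z⟩`
  let Z : Subgroup K0 :=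
    { carrier := {k | ((k : K) : G) = 1 ∨ ((k : K) : G) = F.z}
      one_mem' := Or.inl rfl
      mul_mem' := by
        intro a b ha hb
        show ((a : K) : G) * (b : K) = 1 ∨ ((a : K) : G) * (b : K) = F.z
        rcases ha with ha | ha <;> rcases hb with hb | hb <;> rw [ha, hb] <;>
          simp [sq_eq_one F F.z_mem]
      inv_mem' := by
        intro a ha
        show ((a : K) : G)⁻¹ = 1 ∨ ((a : K) : G)⁻¹ = F.z
        rcases ha with ha | ha <;> rw [ha]
        · exact Or.inl inv_one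
        · exact Or.inr (inv_eq_of_mul_eq_one_right (sq_eq_one F F.z_mem)) }
  have hZc : ∀ k ∈ Z, ∀ g : K0, g * k = k * g := by
    intro k hk g
    refine Subtype.ext (Subtype.ext ?_)
    show ((g : K) : G) * (k : K) = (k : K) * (g : K)
    rcases hk with h | h <;> rw [h]
    · simp
    · exact mem_centralizer_singleton_iff.1 (g : K).2
  haveI hZn : Z.Normal := ⟨fun k hk g => by rw [hZc k hk g, mul_inv_cancel_right]; exact hk⟩
  haveI hZs : Group.IsSolvable Z :=
    Group.isSolvable_of_comm fun a b => Subtype.ext (hZc _ b.2 _)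
  suffices hq : Group.IsSolvable (K0 ⧸ Z) from
    (Group.isSolvable_iff_subgroup_quotient Z).2 ⟨hZs, hq⟩
  set π := QuotientGroup.mk' Z with hπ
  have hπs : Function.Surjective π := QuotientGroup.mk'_surjective Z
  have hπ1 : ∀ k : K0, π k = 1 ↔ ((k : K) : G) = 1 ∨ ((k : K) : G) = F.z :=
    fun k => QuotientGroup.eq_one_iff k
  -- the Sylow subgroup `S0`
  set R : Subgroup K0 := (F.S0.subgroupOf K).subgroupOf K0 with hR
  have hS0K0 : F.S0.subgroupOf K ≤ K0 := fun x hx => (hK0 x (mem_S0 F |>.1 hx).1).2 hx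
  have hR32 : Nat.card R = 32 := by
    rw [hR, Nat.card_congr (subgroupOfEquivOfLe hS0K0).toEquiv,
      Nat.card_congr (subgroupOfEquivOfLe hS0K).toEquiv, card_S0]
  have hRidx : ¬ 2 ∣ R.index := by
    intro hd
    have h1 := R.card_mul_index
    have h2 := K0.card_mul_index
    have h3 := (T : Subgroup K).card_mul_index
    have hT64 : Nat.card (T : Subgroup K) = 64 := by
      show Nat.card ((F.S : Subgroup G).subgroupOf K) = 64
      rw [Nat.card_congr (subgroupOfEquivOfLe hSK).toEquiv, F.hS64]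
    refine T.not_dvd_index ?_
    rw [hK02, ← h1, hR32, ← h3, hT64] at h2
    obtain ⟨j, hj⟩ := hd
    exact ⟨j, by rw [hj] at h2; omega⟩
  have hRp : IsPGroup 2 R := IsPGroup.of_card (n := 5) (by rw [hR32]; norm_num)
  let M : Sylow 2 (K0 ⧸ Z) := (hRp.toSylow hRidx).mapSurjective hπs
  have hMdef : (M : Subgroup (K0 ⧸ Z)) = R.map π := rfl
  have hsq : ∀ r ∈ R, π r * π r = 1 := by
    intro r hr
    rw [← map_mul, hπ1]
    exact ((mem_S0 F).1 hr).2.imp And.left id
  have hMA : IsElementaryAbelian 2 (M : Subgroup (K0 ⧸ Z)) := by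
    refine ⟨⟨⟨fun a b => Subtype.ext ?_⟩⟩, fun a ha => ?_⟩
    · obtain ⟨r, hr, hra⟩ := a.2
      obtain ⟨t, ht, htb⟩ := b.2
      show (a : K0 ⧸ Z) * b = b * a
      rw [← hra, ← htb]
      have h1 := hsq _ (mul_mem hr ht)
      rw [map_mul] at h1
      rw [eq_inv_of_mul_eq_one_left h1, mul_inv_rev, inv_eq_of_mul_eq_one_right (hsq r hr),
        inv_eq_of_mul_eq_one_right (hsq t ht)]
    · obtain ⟨r, hr, rfl⟩ := ha
      rw [sq]
      exact hsq r hr
  have h8 : 8 ≤ Nat.card (M : Subgroup (K0 ⧸ Z)) := by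
    set g := π.comp R.subtype with hg
    have hgr : g.range = R.map π := by rw [hg, MonoidHom.range_comp, range_subtype]
    have h1 := g.ker.index_mul_card
    rw [index_ker, hgr, hR32] at h1
    have h2 : Nat.card g.ker ≤ 2 := by
      have hinj : Function.Injective fun x : g.ker => (((x : R) : K0) : K) :=
        Subtype.val_injective.comp (Subtype.val_injective.comp Subtype.val_injective)
      have hsub : (fun x : g.ker => ((((x : R) : K0) : K) : G)) '' Set.univ ⊆ {1, F.z} := by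
        rintro _ ⟨x, -, rfl⟩
        exact (hπ1 _).1 (MonoidHom.mem_ker.1 x.2)
      calc Nat.card g.ker
          = Set.ncard ((fun x : g.ker => ((((x : R) : K0) : K) : G)) '' Set.univ) := by
            rw [Set.ncard_image_of_injective _ (fun a b h => hinj (Subtype.ext h)), Set.ncard_univ]
        _ ≤ Set.ncard ({1, F.z} : Set G) := Set.ncard_le_ncard hsub (Set.toFinite _)
        _ ≤ 2 := (Set.ncard_insert_le _ _).trans (by rw [Set.ncard_singleton])
    rw [hMdef]
    nlinarith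
  -- the strongly closed subgroup
  set E : Subgroup K0 := R ⊓ (A.subgroupOf K).subgroupOf K0 with hE
  set U := E.map π with hU
  have hlift : ∀ r ∈ R, π r ∈ U → ((r : K) : G) ∈ A := by
    rintro r - ⟨e, he, her⟩
    have h1 : π (e⁻¹ * r) = 1 := by rw [map_mul, map_inv, her, inv_mul_cancel]
    have h2 : ((r : K) : G) = ((e : K) : G) * (((e⁻¹ * r : K0) : K) : G) := by
      show _ = ((e : K) : G) * (((e : K) : G)⁻¹ * (r : K))
      rw [mul_inv_cancel_left]
    rw [h2]
    refine mul_mem he.2 ?_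
    rcases (hπ1 _).1 h1 with h | h <;> rw [h]
    · exact one_mem A
    · exact F.z_mem
  have hmk : ∀ x : G, x ∈ F.S0 → ∃ r : K0, r ∈ R ∧ ((r : K) : G) = x := fun x hx =>
    ⟨⟨⟨x, hS0K hx⟩, hS0K0 hx⟩, hx, rfl⟩
  have hsc : IsStronglyClosed U (M : Subgroup (K0 ⧸ Z)) := by
    refine ⟨map_mono inf_le_left, ?_⟩
    rintro _ ⟨e, he, rfl⟩ q hq
    obtain ⟨g, rfl⟩ := hπs q
    obtain ⟨r, hr, hrq⟩ := hq
    rw [← map_inv, ← map_mul, ← map_mul] at hrq ⊢
    refine ⟨g * e * g⁻¹, ?_, rfl⟩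
    have h1 : π (r⁻¹ * (g * e * g⁻¹)) = 1 := by rw [map_mul, map_inv, hrq, inv_mul_cancel]
    have hS0 : ((g * e * g⁻¹ : K0) : K) ∈ F.S0.subgroupOf K := by
      rw [mem_subgroupOf]
      have h2 : (((g * e * g⁻¹ : K0) : K) : G) =
          ((r : K) : G) * (((r⁻¹ * (g * e * g⁻¹) : K0) : K) : G) := by
        simp only [Subgroup.coe_mul, InvMemClass.coe_inv, mul_inv_cancel_left]
      rw [h2]
      refine mul_mem hr ?_
      rcases (hπ1 _).1 h1 with h | h <;> rw [h]
      · exact one_mem _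
      · exact ⟨F.hAS F.z_mem, (crit_P F {4}).2 (by decide)⟩
    refine ⟨hS0, ?_⟩
    have hA' := closed F he.2 (g := ((g : K) : G)) hS0.1
    exact hA'
  have hUne : U ≠ ⊥ := by
    obtain ⟨r, hr, hrx⟩ := hmk (F.P {0, 2})
      ⟨F.hAS (F.P_mem _), (crit_P F _).2 (by decide)⟩
    intro h
    have h1 : π r ∈ U := mem_map_of_mem _ ⟨hr, show ((r : K) : G) ∈ A from hrx ▸ F.P_mem _⟩
    rw [h, mem_bot, hπ1, hrx, ← mem_zset F] at h1
    exact absurd h1 (by decide)
  have hUM : U ≠ (M : Subgroup (K0 ⧸ Z)) := by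
    obtain ⟨x, hx, hxA⟩ := exists_outer_S0 F
    obtain ⟨r, hr, rfl⟩ := hmk x hx
    intro h
    exact hxA (hlift r hr (h ▸ mem_map_of_mem _ hr))
  refine isSolvable_of_stronglyClosed M hMA h8 hsc hUne hUM ?_
  rintro _ ⟨r, hr, rfl⟩ hr1
  set C := centralizer ({π r} : Set (K0 ⧸ Z)) with hC
  set x : G := ((r : K) : G) with hx
  have hxS0 : x ∈ F.S0 := hr
  -- elements of the preimage move `x` inside its coset
  have hpre : ∀ k : K0, π k ∈ C →
      (((k * r * k⁻¹ * r⁻¹ : K0) : K) : G) = 1 ∨ (((k * r * k⁻¹ * r⁻¹ : K0) : K) : G) = F.z := by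
    intro k hk
    have h1 : π k * π r = π r * π k := mem_centralizer_singleton_iff.1 hk
    refine (hπ1 _).1 ?_
    rw [map_mul, map_mul, map_mul, map_inv, map_inv, h1, mul_inv_cancel_right, mul_inv_cancel]
  by_cases hxA : x ∈ A
  · -- preimage of the centralizer
    have hx1 : x ≠ 1 := fun h => hr1 ((hπ1 r).2 (Or.inl h))
    have hxz : x ≠ F.z := fun h => hr1 ((hπ1 r).2 (Or.inr h))
    haveI := isSolvable_z_inf F hxA hxS0.2 hx1 hxz
    set D := C.comap π with hD
    suffices hDs : Group.IsSolvable D by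
      haveI := hDs
      exact Group.isSolvable_of_surjective (f := π.subgroupComap C)
        (fun q => by
          obtain ⟨g, hg⟩ := hπs q.1
          exact ⟨⟨g, show π g ∈ C from hg ▸ q.2⟩, Subtype.ext hg⟩)
    let h : D →* Z :=
      { toFun := fun k => ⟨(k : K0) * r * (k : K0)⁻¹ * r⁻¹, hpre _ k.2⟩
        map_one' := Subtype.ext (show (1 : K0) * r * (1 : K0)⁻¹ * r⁻¹ = 1 by group)
        map_mul' := fun a b => Subtype.ext (by
          show (a : K0) * b * r * ((a : K0) * b)⁻¹ * r⁻¹ =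
            (a : K0) * r * (a : K0)⁻¹ * r⁻¹ * ((b : K0) * r * (b : K0)⁻¹ * r⁻¹)
          set c := (b : K0) * r * (b : K0)⁻¹ * r⁻¹ with hc
          have hc' := hZc c (hpre _ b.2)
          calc (a : K0) * b * r * ((a : K0) * b)⁻¹ * r⁻¹
              = (a : K0) * c * (r * (a : K0)⁻¹ * r⁻¹) := by rw [hc]; group
            _ = c * (a : K0) * (r * (a : K0)⁻¹ * r⁻¹) := by rw [hc']
            _ = c * ((a : K0) * r * (a : K0)⁻¹ * r⁻¹) := by group
            _ = _ := (hc' _).symm) }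
    haveI : Group.IsSolvable h.ker := by
      refine Group.isSolvable_of_isSolvable_injective
        (f := ((K.subtype.comp K0.subtype).comp (D.subtype.comp h.ker.subtype)).codRestrict
          (centralizer ({F.z} : Set G) ⊓ centralizer ({x} : Set G)) fun k => ?_) ?_
      · have h1 : ((k : D) : K0) * r * ((k : D) : K0)⁻¹ * r⁻¹ = 1 :=
          congrArg Subtype.val (MonoidHom.mem_ker.1 k.2)
        rw [mul_inv_eq_one, mul_inv_eq_iff_eq_mul] at h1
        exact ⟨(((k : D) : K0) : K).2, mem_centralizer_singleton_iff.2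
          (congrArg (fun t : K0 => ((t : K) : G)) h1)⟩
      · intro a b hab
        exact Subtype.ext (Subtype.ext (Subtype.ext (Subtype.ext
          (congrArg (fun t : ↥(centralizer ({F.z} : Set G) ⊓ centralizer ({x} : Set G)) => (t : G))
            hab))))
    exact Group.isSolvable_of_ker_le_range h.ker.subtype h (by rw [range_subtype])
  · -- Burnside
    have hMC : (M : Subgroup (K0 ⧸ Z)) ≤ C := fun m hm => mem_centralizer_singleton_iff.2
      (congrArg Subtype.val (hMA.1.is_comm.comm ⟨m, hm⟩ ⟨π r, mem_map_of_mem _ hr⟩))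
    let MC : Sylow 2 C := (M.2.comap_subtype (K := C)).toSylow fun hd =>
      M.not_dvd_index (hd.trans (relIndex_dvd_index_of_le hMC))
    refine isSolvable_of_odd_centralizes MC ⟨⟨fun a b => Subtype.ext (Subtype.ext
      (show ((a : C) : K0 ⧸ Z) * (b : C) = (b : C) * (a : C) from congrArg Subtype.val
        (hMA.1.is_comm.comm (⟨((a : C) : K0 ⧸ Z), a.2⟩ : (M : Subgroup (K0 ⧸ Z)))
          ⟨((b : C) : K0 ⧸ Z), b.2⟩)))⟩⟩ ?_
    intro n hn hno m hm
    obtain ⟨g, hg⟩ := hπs (n : K0 ⧸ Z)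
    obtain ⟨j, hjo, hj⟩ := exists_odd_preimage π g (by rw [hg, orderOf_coe]; exact hno)
    set k := g ^ j with hk
    have hkn : π k = (n : K0 ⧸ Z) := hj.trans hg
    have hkG : Odd (orderOf ((k : K) : G)) := by
      rwa [Subgroup.orderOf_coe, Subgroup.orderOf_coe]
    have hkz : Commute ((k : K) : G) F.z := mem_centralizer_singleton_iff.1 (k : K).2
    have hknS : ∀ y ∈ F.S0, ((k : K) : G) * y * ((k : K) : G)⁻¹ ∈ F.S0 := by
      intro y hy
      obtain ⟨t, ht, rfl⟩ := hmk y hy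
      have h1 : π (k * t * k⁻¹) ∈ (M : Subgroup (K0 ⧸ Z)) := by
        rw [map_mul, map_mul, map_inv, hkn]
        exact (mem_normalizer_iff.1 hn ⟨π t, hMC (mem_map_of_mem _ ht)⟩).1 (mem_map_of_mem _ ht)
      obtain ⟨w, hw, hwk⟩ := h1
      have h2 : π (w⁻¹ * (k * t * k⁻¹)) = 1 := by rw [map_mul, map_inv, hwk, inv_mul_cancel]
      have h3 : ((k : K) : G) * (t : K) * ((k : K) : G)⁻¹ =
          ((w : K) : G) * (((w⁻¹ * (k * t * k⁻¹) : K0) : K) : G) := by
        simp only [Subgroup.coe_mul, InvMemClass.coe_inv, mul_inv_cancel_left]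
      rw [h3]
      refine mul_mem hw ?_
      rcases (hπ1 _).1 h2 with h | h <;> rw [h]
      · exact one_mem _
      · exact ⟨F.hAS F.z_mem, (crit_P F {4}).2 (by decide)⟩
    have hkx : Commute ((k : K) : G) x := by
      set c : G := x⁻¹ * ((((k * r * k⁻¹ * r⁻¹ : K0) : K) : G) * x) with hc
      have h1 := hpre k (hkn ▸ n.2)
      have hcz : c = 1 ∨ c = F.z := by
        rcases h1 with h | h <;> rw [hc, h]
        · exact Or.inl (by group)
        · refine Or.inr ?_
          rw [← (z_central F hxS0.1).eq, inv_mul_cancel_left]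
      have heq : ((k : K) : G) * x * ((k : K) : G)⁻¹ = x * c := by
        rw [hc, mul_inv_cancel_left]
        simp only [Subgroup.coe_mul, InvMemClass.coe_inv, ← hx, inv_mul_cancel_right]
      have h2 : c ^ 2 = 1 := by
        rcases hcz with h | h <;> rw [h]
        · exact one_pow 2
        · exact F.hA.2 _ F.z_mem
      have h3 : Commute ((k : K) : G) c := by
        rcases hcz with h | h <;> rw [h]
        · exact Commute.one_right _
        · exact hkz
      rw [fix_of_odd hkG h2 h3 heq, mul_one] at heq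
      exact mul_inv_eq_iff_eq_mul.1 heq
    obtain ⟨t, ht, htm⟩ := hm
    have h4 := odd_fix F hkz hkG hknS hxS0 hxA hkx _ ht
    refine Subtype.ext ?_
    show (n : K0 ⧸ Z) * (m : K0 ⧸ Z) = (m : K0 ⧸ Z) * n
    have htm' : π t = ((m : C) : K0 ⧸ Z) := htm
    rw [← hkn, ← htm', ← map_mul, ← map_mul]
    exact congrArg π (Subtype.ext (Subtype.ext h4.eq))

end Cfsg.Agent.Lib.A8Sylow91.Frame
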