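import Mathlib
import Cfsg.Agent.Lib.A8Sylow91.Central

/-!
The normality of `A · O(G)` (row S3197).
-/

set_option autoImplicit false

namespace Cfsg.Agent.Lib.A8Sylow91.Frame

open Cfsg Subgroup Equiv

universe u

variable {G : Type u} [Group G] [Finite G] {A : Subgroup G} (F : Frame A)

include F

theorem isSolvable_centralizer {a : G} (ha : a ∈ A) (ha1 : a ≠ 1) :
    Group.IsSolvable ↥(centralizer ({a} : Set G)) := by
  have hz := isSolvable_z F
  have key : ∀ b : G, IsConj a b → Group.IsSolvable ↥(centralizer ({b} : Set G)) →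
      Group.IsSolvable ↥(centralizer ({a} : Set G)) := by
    intro b hab hb
    obtain ⟨c, hc⟩ := isConj_iff.1 hab
    refine Group.isSolvable_of_isSolvable_injective
      (f := ((MulAut.conj c).toMonoidHom.comp (centralizer ({a} : Set G)).subtype).codRestrict
        (centralizer ({b} : Set G)) fun x => mem_centralizer_singleton_iff.2 ?_) ?_
    · show c * x * c⁻¹ * b = b * (c * x * c⁻¹)
      rw [← hc, conj_mul, conj_mul, mem_centralizer_singleton_iff.1 x.2]
    · intro x y hxy
      exact Subtype.ext ((MulAut.conj c).injective (congrArg Subtype.val hxy))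
  rcases isConj_std F ha ha1 with h | h
  · exact key _ h hz
  · exact key _ h (isSolvable_u₁ F hz)

theorem le_of_mem {N₀ : Subgroup G} (h : ∀ s : Finset (Fin 5), s.card = 2 → F.P s ∈ N₀) :
    A ≤ N₀ := by
  have h1 : ∀ i, F.P {i} ∈ N₀ := fun i => by
    obtain ⟨a, b, ha, hb, hab⟩ := gen_single i
    have h2 := mul_mem (h a ha) (h b hb)
    rw [F.P_mul] at h2
    rcases hab with h3 | h3 <;> rw [h3] at h2
    · exact h2
    · rwa [P_compl] at h2
  intro x hx
  obtain ⟨s, rfl⟩ := F.P_surj x hx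
  induction s using Finset.induction_on with
  | empty => rw [P_empty]; exact one_mem _
  | insert i s hi ih =>
    have e : symmDiff {i} s = insert i s := by
      ext j
      simp only [Finset.mem_symmDiff, Finset.mem_singleton, Finset.mem_insert]
      constructor
      · tauto
      · rintro (rfl | hj)
        · exact Or.inl ⟨rfl, hi⟩
        · exact Or.inr ⟨hj, fun h => hi (h ▸ hj)⟩
    rw [← e, ← F.P_mul]
    exact mul_mem (h1 i) (ih (F.P_mem s))

theorem normal_sup : (A ⊔ oddCore G).Normal := by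
  haveI : Fact (Nat.Prime 2) := ⟨Nat.prime_two⟩
  refine normal_sup_oddCore_of_top (oddCore_sup_normalizer_eq_top F.hA (by rw [F.h16]; norm_num)
    (fun a ha ha1 => isSolvable_centralizer F ha ha1)
    (fun a ha ha1 => centralizer_le_sup F.S F.hA.1
      (SignalizerFamily.isPGroup_of_isElementaryAbelian F.hA) (stronglyClosed F) ha
      (isSolvable_centralizer F ha ha1)) ?_)
  intro H hN hC
  have hSH : (F.S : Subgroup G) ≤ H := F.hSN.trans hN
  have hconj : ∀ x : G, IsConj x F.u₁ → x ∈ H := by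
    intro x hx
    obtain ⟨w, hwA, hwx, hwz⟩ := exists_link F x F.z (IsConj.refl _) hx
    have hwH : w ∈ H := hC _ F.z_mem (z_ne_one F) (mem_centralizer_singleton_iff.2 hwz.eq)
    let SH : Sylow 2 H := (F.S.2.comap_subtype (K := H)).toSylow fun hd =>
      F.S.not_dvd_index (hd.trans (relIndex_dvd_index_of_le hSH))
    have hwp : IsPGroup 2 (zpowers (⟨w, hwH⟩ : H)) :=
      isPGroup_zpowers_of_pow (k := 1) (Subtype.ext (by
        rw [SubmonoidClass.coe_pow, pow_one, sq]
        exact aType_sq F hwA))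
    obtain ⟨R, hR⟩ := hwp.exists_le_sylow
    obtain ⟨c, hc⟩ := MulAction.exists_smul_eq H R SH
    have hcw : (c : G) * w * (c : G)⁻¹ ∈ (F.S : Subgroup G) := by
      have : c * ⟨w, hwH⟩ * c⁻¹ ∈ (SH : Subgroup H) := by
        rw [← hc]
        exact mem_map_of_mem _ (hR (mem_zpowers _))
      exact this
    have hCw := hC _ (mem_A_of_aType F hwA hcw) fun h => hwA.1 (conj_eq_one_iff.1 h)
    have hxc : (c : G) * x * (c : G)⁻¹ ∈ centralizer ({(c : G) * w * (c : G)⁻¹} : Set G) :=
      mem_centralizer_singleton_iff.2 (by rw [conj_mul, conj_mul, hwx.eq])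
    have := mul_mem (mul_mem (inv_mem c.2) (hCw hxc)) c.2
    convert this using 1
    group
  set N₀ := normalClosure ({F.u₁} : Set G) with hN₀
  have hN₀H : N₀ ≤ H := by
    refine (closure_le H).2 fun y hy => ?_
    obtain ⟨v, hv, hy⟩ := Group.mem_conjugatesOfSet_iff.1 hy
    rw [Set.mem_singleton_iff] at hv
    exact hconj y (hv ▸ hy.symm)
  haveI : N₀.Normal := normalClosure_normal
  have hAN : A ≤ N₀ := le_of_mem F fun s hs => by
    have hne : F.P s ≠ 1 := by
      rw [Ne, P_eq_one]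
      rintro (rfl | rfl) <;> simp at hs
    obtain ⟨n, h | h⟩ := exists_conj_std F hne
    · omega
    · have h1 := (inferInstance : N₀.Normal).conj_mem _
        (h.2 ▸ subset_normalClosure (Set.mem_singleton F.u₁) :
          (n : G) * F.P s * (n : G)⁻¹ ∈ N₀) (n : G)⁻¹
      convert h1 using 1
      group
  obtain ⟨SN, hSN⟩ := (F.S.2.comap_subtype (K := N₀)).exists_le_sylow
  have hSNeq : (F.S : Subgroup G).subgroupOf N₀ = (SN : Subgroup N₀) := by
    obtain ⟨c, hc⟩ := exists_conj_closure F (N₀.subtype '' ((SN : Subgroup N₀) : Set N₀))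
      (SN.2.map N₀.subtype) fun y hy => hy
    have hmem : ∀ x : (SN : Subgroup N₀), c * ((x : N₀) : G) * c⁻¹ ∈ (F.S : Subgroup G) ∧
        c * ((x : N₀) : G) * c⁻¹ ∈ N₀ := fun x =>
      ⟨hc _ ⟨_, x.2, rfl⟩, (inferInstance : N₀.Normal).conj_mem _ (x : N₀).2 c⟩
    refine eq_of_le_of_card_ge hSN (Nat.card_le_card_of_injective
      (fun x : (SN : Subgroup N₀) => (⟨⟨_, (hmem x).2⟩, (hmem x).1⟩ :
        (F.S : Subgroup G).subgroupOf N₀)) fun x y h => Subtype.ext (Subtype.ext ?_))
    have h' := congrArg (fun t : (F.S : Subgroup G).subgroupOf N₀ => ((t : N₀) : G)) h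
    exact mul_left_cancel (mul_right_cancel h')
  have hfr := Sylow.normalizer_sup_eq_top SN
  refine eq_top_iff.2 (hfr ▸ sup_le (fun g hg => hN (mem_normalizer_fintype fun a ha => ?_)) hN₀H)
  have h1 : (⟨a, hAN ha⟩ : N₀) ∈ (SN : Subgroup N₀) := hSN (F.hAS ha)
  obtain ⟨b, hb, hbg⟩ := (mem_normalizer_iff.1 hg a).1 ⟨_, h1, rfl⟩
  have hb' : ((b : N₀) : G) ∈ (F.S : Subgroup G) := hSNeq.symm.le hb
  have hbg' : (b : G) = g * a * g⁻¹ := hbg
  exact closed F ha (hbg' ▸ hb')

end Cfsg.Agent.Lib.A8Sylow91.Frame
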